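import Cfsg.Agent.Lib.ClassSizesFour.Basic
import Cfsg.Agent.Lib.CharTheory.Burnside

/-!
Exactly three class sizes `1 < n₂ < n₁` in a nonsolvable group: setting and generalities.
-/

set_option autoImplicit false

namespace CfsgLib.ClassSizesThreeIto

open Subgroup CfsgLib.ClassSizes3 CfsgLib.ClassSizesFour

variable {G : Type*} [Group G]

/-- The hypothesis, for an argument by contradiction. -/
structure H3 (G : Type*) [Group G] (n₁ n₂ : ℕ) : Prop where
  one_lt : 1 < n₂
  lt : n₂ < n₁
  vals : ∀ x : G, cl x = 1 ∨ cl x = n₂ ∨ cl x = n₁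
  notSolv : ¬ Group.IsSolvable G

/-- `C u` is minimal among the centralizers of noncentral elements. -/
def Min (u : G) : Prop := ∀ b : G, b ∉ center G → C b ≤ C u → C b = C u

variable {n₁ n₂ : ℕ}

theorem H3.cases (h : H3 G n₁ n₂) {x : G} (hx : x ∉ center G) : cl x = n₂ ∨ cl x = n₁ :=
  (h.vals x).resolve_left fun e => hx (cl_eq_one.mp e)

theorem H3.notCenter₂ (h : H3 G n₁ n₂) {x : G} (hx : cl x = n₂) : x ∉ center G :=
  notCenter_of_cl h.one_lt hx

theorem H3.notCenter₁ (h : H3 G n₁ n₂) {x : G} (hx : cl x = n₁) : x ∉ center G :=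
  notCenter_of_cl (h.one_lt.trans h.lt) hx

theorem C_le_of_mem_zpowers {x w : G} (h : w ∈ zpowers x) : C x ≤ C w := fun g hg => mem_C.mpr (by
  obtain ⟨i, rfl⟩ := mem_zpowers_iff.mp h
  exact ((show Commute g x from mem_C.mp hg).zpow_right i).eq)

theorem mem_centralizer_C {v w : G} : v ∈ centralizer (C w : Set G) ↔ C w ≤ C v :=
  ⟨fun h _ hg => mem_C.mpr (mem_centralizer_iff.mp h _ hg),
    fun h => mem_centralizer_iff.mpr fun _ hg => mem_C.mp (h hg)⟩

theorem pel_of_coprime_dvd {s p : ℕ} {u : G} (hu : PEl s u) (hu1 : u ≠ 1)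
    (hco : (orderOf u).Coprime p) : s ≠ p := by
  rintro rfl
  obtain ⟨k, hk⟩ := hu
  have h1 : (orderOf u).Coprime (s ^ k) := hco.pow_right k
  exact hu1 (orderOf_eq_one_iff.mp ((Nat.coprime_self _).mp
    (h1.coprime_dvd_right (orderOf_dvd_of_pow_eq_one hk))))

variable [Finite G]

theorem H3.min_of_cl (h : H3 G n₁ n₂) {u : G} (hu : cl u = n₁) : Min u := fun b hb hle => by
  refine eq_of_le_of_cl_eq hle ?_
  have hd : n₁ ∣ cl b := hu ▸ cl_dvd_of_le hle
  rcases h.cases hb with e | e
  · rw [e] at hd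
    have := Nat.le_of_dvd (Nat.zero_lt_of_lt h.one_lt) hd
    have := h.lt
    omega
  · rw [e, hu]

/-- Class size `n₂` cannot grow along an inclusion of centralizers. -/
theorem H3.eq_of_le₂ (h : H3 G n₁ n₂) {x y : G} (hx : cl x = n₂) (hy : y ∉ center G)
    (hle : C x ≤ C y) : C x = C y := by
  refine eq_of_le_of_cl_eq hle ?_
  have hd := cl_dvd_of_le hle
  rcases h.cases hy with e | e
  · rw [e, hx]
  · rw [e, hx] at hd
    have := Nat.le_of_dvd (Nat.zero_lt_of_lt h.one_lt) hd
    have := h.lt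
    omega

theorem min_central {p : ℕ} {u w : G} (hmin : Min u) (hu : u ∉ center G) (hp : PEl p u)
    (hw : w ∈ C u) (hco : (orderOf w).Coprime p) : C u ≤ C w := by
  have hmul := C_mul (show Commute u w from (mem_C.mp hw).symm) (coprime_orderOf_of_pel hp hco)
  have hne : u * w ∉ center G := fun hc => hu (C_eq_top.mp (top_le_iff.mp
    ((C_eq_top.mpr hc).ge.trans (hmul.le.trans inf_le_left))))
  rw [← hmin (u * w) hne (hmul.le.trans inf_le_left), hmul]
  exact inf_le_right

/-- A prime all of whose power order elements are central does not divide `|G : Z(G)|`. -/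
theorem not_dvd_index_center {t : ℕ} [ht : Fact t.Prime]
    (h : ∀ x : G, PEl t x → x ∈ center G) : ¬ t ∣ (center G).index := by
  intro hd
  obtain ⟨D, hD⟩ := exists_sylowIn (p := t) (⊤ : Subgroup G)
  have hd' := card_dvd_of_le (show D ≤ center G from fun x hx => h x (PEl.of_mem hD.isPGroup hx))
  rw [hD.card, card_top, ht.out.pow_dvd_iff_le_factorization Nat.card_pos.ne'] at hd'
  have hi0 : (center G).index ≠ 0 := index_ne_zero_of_finite
  have h1 := ht.out.factorization_pos_of_dvd hi0 hd
  have h2 : (Nat.card (center G)).factorization t + (center G).index.factorization t =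
      (Nat.card G).factorization t := by
    rw [← Finsupp.add_apply, ← Nat.factorization_mul Nat.card_pos.ne' hi0, card_mul_index]
  omega

theorem exists_el_of_dvd_index {t : ℕ} [Fact t.Prime] (hd : t ∣ (center G).index) :
    ∃ x : G, PEl t x ∧ x ∉ center G := by
  by_contra hcon
  push Not at hcon
  exact not_dvd_index_center hcon hd

omit [Finite G] in
theorem dvd_index_of_el {t : ℕ} (ht : t.Prime) {x : G} (hx : PEl t x) (hxc : x ∉ center G) :
    t ∣ (center G).index := by
  obtain ⟨k, hk⟩ := hx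
  rw [index_eq_card]
  have h1 : orderOf (x : G ⧸ center G) ∣ t ^ k :=
    orderOf_dvd_of_pow_eq_one (by rw [← QuotientGroup.mk_pow, hk, QuotientGroup.mk_one])
  obtain ⟨j, -, hj⟩ := (Nat.dvd_prime_pow ht).mp h1
  rcases Nat.eq_zero_or_pos j with rfl | hj0
  · rw [pow_zero, orderOf_eq_one_iff, QuotientGroup.eq_one_iff] at hj
    exact absurd hj hxc
  · exact (hj ▸ dvd_pow_self t hj0.ne').trans (orderOf_dvd_natCard _)

/-- If only two primes divide `|G : Z(G)|` then `G` is solvable. -/
theorem isSolvable_of_index_center {p q : ℕ} (hp : p.Prime) (hq : q.Prime)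
    (h : ∀ t : ℕ, t.Prime → t ∣ (center G).index → t = p ∨ t = q) : Group.IsSolvable G := by
  have hi0 : (center G).index ≠ 0 := index_ne_zero_of_finite
  have hcard : Nat.card (G ⧸ center G) ∣
      p ^ (center G).index.factorization p * q ^ (center G).index.factorization q := by
    rw [← index_eq_card, ← Nat.factorization_le_iff_dvd hi0
      (mul_ne_zero (pow_ne_zero _ hp.ne_zero) (pow_ne_zero _ hq.ne_zero))]
    intro t
    by_cases ht : t ∈ (center G).index.factorization.support
    swap
    · rw [Finsupp.notMem_support_iff.mp ht]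
      exact Nat.zero_le _
    rw [Nat.support_factorization, Nat.mem_primeFactors] at ht
    rw [Nat.factorization_mul (pow_ne_zero _ hp.ne_zero) (pow_ne_zero _ hq.ne_zero),
      Finsupp.add_apply, hp.factorization_pow, hq.factorization_pow]
    rcases h t ht.1 ht.2.1 with rfl | rfl <;> simp
  have hqs : Group.IsSolvable (G ⧸ center G) :=
    CfsgLib.CharTheory.isSolvable_of_card_dvd_pow_mul_pow p q _ _ hp hq hcard
  have hc : Group.IsSolvable (center G) :=
    Group.isSolvable_of_comm fun a b => Subtype.ext (mem_center_iff.mp b.2 a)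
  exact Group.isSolvable_of_ker_le_range (center G).subtype (QuotientGroup.mk' (center G))
    (by rw [QuotientGroup.ker_mk', range_subtype])

theorem H3.exists_third (h : H3 G n₁ n₂) {p q : ℕ} (hp : p.Prime) (hq : q.Prime) :
    ∃ r : ℕ, r.Prime ∧ r ≠ p ∧ r ≠ q ∧ r ∣ (center G).index := by
  by_contra hcon
  push Not at hcon
  refine h.notSolv (isSolvable_of_index_center hp hq fun t ht hd => ?_)
  by_contra hne
  push Not at hne
  exact hcon t ht hne.1 hne.2 hd

/-- A prime dividing no class size has only central elements. -/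
theorem central_of_forall_not_dvd {t : ℕ} [ht : Fact t.Prime] (h : ∀ z : G, ¬ t ∣ cl z) {x : G}
    (hx : PEl t x) : x ∈ center G := by
  obtain ⟨D, hD⟩ := exists_sylowIn (p := t) (⊤ : Subgroup G)
  have htop : centralizer (D : Set G) = ⊤ := by
    refine CfsgLib.Subnormal.eq_top_of_forall_exists_conj_mem fun z => ?_
    obtain ⟨E, hE⟩ := exists_sylowIn (p := t) (C z)
    obtain ⟨c, -, hc⟩ := (hE.full (h z)).exists_conj hD.isPGroup le_top
    refine ⟨c⁻¹, mem_centralizer_iff.mpr fun a ha => ?_⟩
    have h1 : c⁻¹ * (c * a * c⁻¹) * c⁻¹⁻¹ ∈ C (c⁻¹ * z * c⁻¹⁻¹) := conj_mem_conj (hE.le (hc a ha))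
    rw [show c⁻¹ * (c * a * c⁻¹) * c⁻¹⁻¹ = a by group] at h1
    exact mem_C.mp h1
  refine hD.mem_center (fun a ha => mem_center_iff.mpr fun g => ?_) hx (mem_top x)
  have hg : g ∈ centralizer (D : Set G) := htop ▸ mem_top g
  exact (mem_centralizer_iff.mp hg a ha).symm

/-! ### Inside a subgroup -/

omit [Finite G] in
theorem pel_coe {D : Subgroup G} {t : ℕ} {x : D} : PEl t (x : G) ↔ PEl t x := by
  simp only [PEl, ← SubgroupClass.coe_pow, OneMemClass.coe_eq_one]

omit [Finite G] in
theorem mem_center_subtype {D : Subgroup G} {x : D} : x ∈ center D ↔ D ≤ C (x : G) :=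
  ⟨fun h g hg => mem_C.mpr (congrArg Subtype.val (mem_center_iff.mp h ⟨g, hg⟩)),
    fun h => mem_center_iff.mpr fun g => Subtype.ext (mem_C.mp (h g.2))⟩

omit [Finite G] in
theorem relIndex_dvd_center_index {D : Subgroup G} {a : G} (ha : a ∈ D) :
    (C a).relIndex D ∣ (center D).index := by
  rw [← index_centralizer_subtype D ⟨a, ha⟩]
  exact index_dvd_of_le (center_le_centralizer _)

theorem prime_of_center_index {D : Subgroup G} {t : ℕ} (ht : t.Prime) (hd : t ∣ (center D).index) :
    ∃ v ∈ D, PEl t v ∧ ¬ D ≤ C v := by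
  have : Fact t.Prime := ⟨ht⟩
  obtain ⟨x, hx, hxc⟩ := exists_el_of_dvd_index hd
  exact ⟨x, x.2, pel_coe.mpr hx, fun h => hxc (mem_center_subtype.mpr h)⟩

/-- A subgroup in which all elements of prime power order, for primes other than `p, q`, are
central is solvable. -/
theorem isSolvable_of_central {D : Subgroup G} {p q : ℕ} (hp : p.Prime) (hq : q.Prime)
    (h : ∀ t : ℕ, t.Prime → t ≠ p → t ≠ q → ∀ v ∈ D, PEl t v → D ≤ C v) : Group.IsSolvable D := by
  refine isSolvable_of_index_center hp hq fun t ht hd => ?_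
  obtain ⟨v, hv, hvt, hne⟩ := prime_of_center_index ht hd
  by_contra hcon
  push Not at hcon
  exact hne (h t ht hcon.1 hcon.2 v hv hvt)

end CfsgLib.ClassSizesThreeIto
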