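import Cfsg.Agent.Lib.ClassSizesThreeIto.Basic
import Cfsg.Agent.S4033
import Cfsg.Agent.S4034

/-!
Exactly three class sizes, one centralizer properly inside another: the quotient of the class
sizes is a power of one prime `p`, and centralizers of `p'`-elements of prime power order are
abelian modulo their `p`-part.
-/

set_option autoImplicit false

namespace CfsgLib.ClassSizesThreeIto

open Subgroup CfsgLib.ClassSizes3 CfsgLib.ClassSizesFour

variable {G : Type*} [Group G]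

/-- Nested centralizers occur, and `k = n₁ / n₂`. -/
structure H3N (G : Type*) [Group G] (n₁ n₂ k : ℕ) : Prop where
  base : H3 G n₁ n₂
  hk : n₁ = k * n₂
  ex : ∃ a b : G, a ∉ center G ∧ b ∉ center G ∧ C a < C b

variable {n₁ n₂ k : ℕ} [Finite G]

theorem H3.cl_of_lt (h : H3 G n₁ n₂) {a b : G} (ha : a ∉ center G) (hb : b ∉ center G)
    (hlt : C a < C b) : cl a = n₁ ∧ cl b = n₂ := by
  rcases h.cases ha with e | e
  · exact absurd (h.eq_of_le₂ e hb hlt.le) hlt.ne
  refine ⟨e, (h.cases hb).resolve_right fun e' => hlt.ne ?_⟩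
  exact eq_of_le_of_cl_eq hlt.le (by rw [e, e'])

theorem H3.nested (h : H3 G n₁ n₂) {a b : G} (ha : a ∉ center G) (hb : b ∉ center G)
    (hlt : C a < C b) : ∃ k, H3N G n₁ n₂ k := by
  obtain ⟨ea, eb⟩ := h.cl_of_lt ha hb hlt
  obtain ⟨k, hk⟩ : n₂ ∣ n₁ := ea ▸ eb ▸ cl_dvd_of_le hlt.le
  exact ⟨k, h, hk.trans (mul_comm _ _), a, b, ha, hb, hlt⟩

omit [Finite G] in
theorem H3N.k_gt (h : H3N G n₁ n₂ k) : 1 < k := by
  by_contra hcon
  have h1 := h.base.lt
  have h2 : k * n₂ ≤ 1 * n₂ := Nat.mul_le_mul_right n₂ (by omega)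
  rw [← h.hk, one_mul] at h2
  omega

theorem H3N.exists_pair (h : H3N G n₁ n₂ k) :
    ∃ (p : ℕ) (y a : G), p.Prime ∧ PEl p y ∧ cl y = n₂ ∧ a ∉ center G ∧ C a < C y := by
  obtain ⟨a, b, ha, hb, hlt⟩ := h.ex
  obtain ⟨p, y, hp, hy, hle, hyc⟩ := exists_pel_noncentral hb
  exact ⟨p, y, a, hp, hy, (h.base.cl_of_lt ha hyc (hlt.trans_le hle)).2, ha, hlt.trans_le hle⟩

/-- The class size of a `p`-regular element of `C(y)` in `C(y)` is `1` or `k`. -/
theorem H3N.rel_cases (h : H3N G n₁ n₂ k) {p : ℕ} {y v : G} (hy : PEl p y) (hcl : cl y = n₂)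
    (hv : v ∈ C y) (hco : (orderOf v).Coprime p) :
    (C v).relIndex (C y) = 1 ∨ (C v).relIndex (C y) = k := by
  have hn : 0 < n₂ := Nat.zero_lt_of_lt h.base.one_lt
  have he := relIndex_mul_cl (show Commute y v from (mem_C.mp hv).symm)
    (coprime_orderOf_of_pel hy hco)
  rw [hcl] at he
  rcases h.base.vals (y * v) with e | e | e <;> rw [e] at he
  · exact absurd (Nat.le_of_dvd one_pos ⟨_, he.symm.trans (mul_comm _ _)⟩)
      (by have := h.base.one_lt; omega)
  · exact Or.inl (Nat.eq_of_mul_eq_mul_right hn (he.trans (one_mul n₂).symm))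
  · exact Or.inr (Nat.eq_of_mul_eq_mul_right hn (he.trans h.hk))

/-- The `p`-regular elements of a subgroup in which their class sizes are `1` or `k`: all central,
or an abelian `p`-complement, or all but those of one further prime central. -/
theorem regular_trichotomy {D : Subgroup G} {k p : ℕ} (hk : 1 < k) (hp : p.Prime)
    (hrel : ∀ v ∈ D, (orderOf v).Coprime p → (C v).relIndex D = 1 ∨ (C v).relIndex D = k) :
    (∀ v ∈ D, (orderOf v).Coprime p → D ≤ C v) ∨
    ((∃ j, k = p ^ j) ∧ ∃ H ≤ D, (∀ a ∈ H, ∀ b ∈ H, Commute a b) ∧ ¬ p ∣ Nat.card H ∧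
      ∃ j, H.relIndex D = p ^ j) ∨
    ∃ q : ℕ, q.Prime ∧ q ≠ p ∧
      ∀ t : ℕ, t.Prime → t ≠ p → t ≠ q → ∀ v ∈ D, PEl t v → D ≤ C v := by
  by_cases hT0 : ∀ v ∈ D, (orderOf v).Coprime p → D ≤ C v
  · exact Or.inl hT0
  right
  push Not at hT0
  obtain ⟨v0, hv0, hco0, hne0⟩ := hT0
  have hv0k : (C v0).relIndex (D) = k :=
    (hrel v0 hv0 hco0).resolve_left fun e => hne0 (relIndex_eq_one.mp e)
  have hrange : Set.range (fun x : {x : D // (orderOf x).Coprime p} =>
      (ConjClasses.mk (x : D)).carrier.ncard) = {1, k} := by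
    ext i
    simp only [Set.mem_range, Set.mem_insert_iff, Set.mem_singleton_iff]
    constructor
    · rintro ⟨⟨x, hx⟩, rfl⟩
      rw [ncard_class_subtype]
      exact hrel x x.2 (by rwa [Subgroup.orderOf_coe])
    · rintro (rfl | rfl)
      · refine ⟨⟨1, by simp⟩, ?_⟩
        rw [ncard_class_subtype]
        exact relIndex_eq_one.mpr fun g _ => mem_C.mpr (by simp)
      · refine ⟨⟨⟨v0, hv0⟩, by rwa [Subgroup.orderOf_mk]⟩, ?_⟩
        rw [ncard_class_subtype]
        exact hv0k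
  have hcard : Set.ncard (Set.range fun x : {x : D // (orderOf x).Coprime p} =>
      (ConjClasses.mk (x : D)).carrier.ncard) = 2 := by
    rw [hrange]
    exact Set.ncard_pair hk.ne
  rcases Cfsg.Agent.S4033.result hp hcard with hH | ⟨q, _, P, Q, A, hqp, hA, hPQc, hn, hinf, hsup⟩
  · left
    obtain ⟨j, hj⟩ := (Cfsg.Agent.S4034.result hp).mpr hH ⟨v0, hv0⟩ (by rwa [Subgroup.orderOf_mk])
    rw [ncard_class_subtype, hv0k] at hj
    obtain ⟨H, hHc, hHp, i, hi⟩ := hH
    refine ⟨⟨j, hj⟩, H.map (D).subtype, map_subtype_le _, ?_, ?_, i, ?_⟩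
    · rintro _ ⟨a, ha, rfl⟩ _ ⟨b, hb, rfl⟩
      exact congrArg (fun c : H => ((c : D) : G)) (mul_comm' (⟨a, ha⟩ : H) ⟨b, hb⟩)
    · rwa [card_map_of_injective (D).subtype_injective]
    · rw [← hi, relIndex, subgroupOf, comap_map_eq_self_of_injective (D).subtype_injective]
  · right
    refine ⟨q, Fact.out, hqp, fun t ht htp htq v hv hvt => ?_⟩
    have hmem : (⟨v, hv⟩ : D) ∈ ((P : Subgroup (D)) ⊔ Q) ⊔ A := hsup ▸ mem_top _
    have := hn
    obtain ⟨s, hs, a, ha, hsa⟩ := mem_sup_of_normal_left.mp hmem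
    have hca : Commute s a := mem_center_iff.mp (hA ha) s
    obtain ⟨e, he⟩ := hvt
    have he' : (⟨v, hv⟩ : D) ^ t ^ e = 1 := Subtype.ext he
    rw [← hsa, hca.mul_pow, mul_eq_one_iff_eq_inv] at he'
    have hs1 : s ^ t ^ e = 1 := by
      have hm : s ^ t ^ e ∈ ((P : Subgroup (D)) ⊔ Q) ⊓ A :=
        ⟨pow_mem hs _, by rw [he']; exact A.inv_mem (A.pow_mem ha _)⟩
      rwa [hinf, mem_bot] at hm
    have : Fact p.Prime := ⟨hp⟩
    obtain ⟨i, hi⟩ := IsPGroup.iff_card.mp P.isPGroup'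
    obtain ⟨j, hj⟩ := IsPGroup.iff_card.mp Q.isPGroup'
    have hsd : orderOf s ∣ p ^ i * q ^ j := by
      rw [← hi, ← hj, ← hPQc]
      exact Subgroup.orderOf_dvd_natCard _ hs
    have hco : (p ^ i * q ^ j).Coprime (t ^ e) :=
      ((((Nat.coprime_primes hp ht).mpr htp.symm).pow i e).mul_left
        (((Nat.coprime_primes Fact.out ht).mpr htq.symm).pow j e))
    have hs2 : s = 1 := orderOf_eq_one_iff.mp ((Nat.coprime_self _).mp
      ((hco.coprime_dvd_left hsd).coprime_dvd_right (orderOf_dvd_of_pow_eq_one hs1)))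
    rw [hs2, one_mul] at hsa
    exact mem_center_subtype.mp (show (⟨v, hv⟩ : D) ∈ center (D) from hsa ▸ hA ha)

/-- The `p`-regular elements of the centralizer of a `p`-element of class size `n₂`: all central,
or an abelian `p`-complement, or all but those of one further prime central. -/
theorem H3N.trichotomy (h : H3N G n₁ n₂ k) {p : ℕ} (hp : p.Prime) {y : G} (hy : PEl p y)
    (hcl : cl y = n₂) :
    (∀ v ∈ C y, (orderOf v).Coprime p → C y ≤ C v) ∨
    ((∃ j, k = p ^ j) ∧ ∃ H ≤ C y, (∀ a ∈ H, ∀ b ∈ H, Commute a b) ∧ ¬ p ∣ Nat.card H ∧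
      ∃ j, H.relIndex (C y) = p ^ j) ∨
    ∃ q : ℕ, q.Prime ∧ q ≠ p ∧
      ∀ t : ℕ, t.Prime → t ≠ p → t ≠ q → ∀ v ∈ C y, PEl t v → C y ≤ C v :=
  regular_trichotomy h.k_gt hp fun _ hv hco => h.rel_cases hy hcl hv hco

/-- Below `y`, the primes dividing `k`. -/
theorem H3N.below_primes (h : H3N G n₁ n₂ k) {p : ℕ} (hp : p.Prime) {y a : G} (hy : PEl p y)
    (hcl : cl y = n₂) (ha : a ∉ center G) (hlt : C a < C y) :
    (∀ t : ℕ, t.Prime → t ∣ k → t = p) ∨
    ∃ q : ℕ, q.Prime ∧ (∀ t : ℕ, t.Prime → t ∣ k → t = p ∨ t = q) ∧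
      ∀ t : ℕ, t.Prime → t ≠ p → t ≠ q → ∀ v ∈ C y, PEl t v → C y ≤ C v := by
  have hkd : k ∣ (center (C y)).index := by
    have he : (C a).relIndex (C y) * cl y = cl a := relIndex_mul_index hlt.le
    rw [hcl, (h.base.cl_of_lt ha (h.base.notCenter₂ hcl) hlt).1, h.hk] at he
    rw [← Nat.eq_of_mul_eq_mul_right (Nat.zero_lt_of_lt h.base.one_lt) he]
    exact relIndex_dvd_center_index (hlt.le (self_mem_C a))
  have key : ∀ q : ℕ, (∀ t : ℕ, t.Prime → t ≠ p → t ≠ q → ∀ v ∈ C y, PEl t v → C y ≤ C v) →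
      ∀ t : ℕ, t.Prime → t ∣ k → t = p ∨ t = q := by
    intro q hc t ht hd
    obtain ⟨v, hv, hvt, hne⟩ := prime_of_center_index ht (hd.trans hkd)
    by_contra hcon
    push Not at hcon
    exact hne (hc t ht hcon.1 hcon.2 v hv hvt)
  rcases h.trichotomy hp hy hcl with h0 | ⟨⟨j, hj⟩, -⟩ | ⟨q, hq, -, hc⟩
  · left
    intro t ht hd
    exact (key p (fun s hs hsp _ v hv hvs =>
      h0 v hv (orderOf_coprime_of_pel hp hs hsp hvs)) t ht hd).elim id id
  · left
    intro t ht hd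
    exact (Nat.prime_dvd_prime_iff_eq ht hp).mp (ht.dvd_of_dvd_pow (hj ▸ hd))
  · exact Or.inr ⟨q, hq, key q hc, hc⟩

theorem H3N.fact_eq (h : H3N G n₁ n₂ k) {r : ℕ} [Fact r.Prime] (hrk : ¬ r ∣ k) {x y : G}
    (hx : x ∉ center G) (hy : y ∉ center G) :
    (Nat.card (C x)).factorization r = (Nat.card (C y)).factorization r := by
  have hn : n₁.factorization r = n₂.factorization r := by
    rw [h.hk, Nat.factorization_mul (by have := h.k_gt; omega) (by have := h.base.one_lt; omega),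
      Finsupp.add_apply, Nat.factorization_eq_zero_of_not_dvd hrk, zero_add]
  have hc : ∀ z : G, z ∉ center G → (cl z).factorization r = n₂.factorization r := fun z hz => by
    rcases h.base.cases hz with e | e <;> rw [e]
    exact hn
  have h1 := fact_C (p := r) x
  have h2 := fact_C (p := r) y
  rw [hc x hx] at h1
  rw [hc y hy] at h2
  omega

/-- For a prime of `|G : Z(G)|` not dividing `k`, every centralizer has a noncentral element. -/
theorem H3N.exists_mem (h : H3N G n₁ n₂ k) {r : ℕ} (hr : r.Prime) (hri : r ∣ (center G).index)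
    (hrk : ¬ r ∣ k) {x : G} (hx : x ∉ center G) : ∃ w ∈ C x, PEl r w ∧ w ∉ center G := by
  have : Fact r.Prime := ⟨hr⟩
  obtain ⟨u, hu, huc⟩ := exists_el_of_dvd_index hri
  exact noncentral_transfer (y := u) (h.fact_eq hrk hx huc) hu (self_mem_C u) huc

/-- `k` is a power of one prime. -/
theorem H3N.exists_prime (h : H3N G n₁ n₂ k) :
    ∃ p : ℕ, p.Prime ∧ ∀ t : ℕ, t.Prime → t ∣ k → t = p := by
  obtain ⟨p, y, a, hp, hy, hcl, ha, hlt⟩ := h.exists_pair
  rcases h.below_primes hp hy hcl ha hlt with h1 | ⟨q, hq, hpq, hc⟩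
  · exact ⟨p, hp, h1⟩
  by_cases hpk : p ∣ k
  swap
  · exact ⟨q, hq, fun t ht hd => (hpq t ht hd).resolve_left fun e => hpk (e ▸ hd)⟩
  by_cases hqk : q ∣ k
  swap
  · exact ⟨p, hp, fun t ht hd => (hpq t ht hd).resolve_right fun e => hqk (e ▸ hd)⟩
  obtain ⟨r, hr, hrp, hrq, hri⟩ := h.base.exists_third hp hq
  have hrk : ¬ r ∣ k := fun hd => (hpq r hr hd).elim hrp hrq
  obtain ⟨w, hw, hwr, hwc⟩ := h.exists_mem hr hri hrk (h.base.notCenter₂ hcl)
  have heq := h.base.eq_of_le₂ hcl hwc (hc r hr hrp hrq w hw hwr)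
  have hclw : cl w = n₂ := by rw [cl, ← heq]; exact hcl
  rcases h.below_primes hr hwr hclw ha (heq ▸ hlt) with h1 | ⟨q', hq', hpq', -⟩
  · exact absurd (h1 p hp hpk).symm hrp
  · exact ⟨q', hq', fun t ht hd => (hpq' t ht hd).resolve_left fun e => hrk (e ▸ hd)⟩

/-- The setting: `k` is a power of `p`. -/
structure Setting (G : Type*) [Group G] (n₁ n₂ k p : ℕ) : Prop where
  nest : H3N G n₁ n₂ k
  hp : p.Prime
  kpow : ∀ t : ℕ, t.Prime → t ∣ k → t = p

/-- A noncentral element of prime power order, for a prime other than `p`. -/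
def Big (p : ℕ) (w : G) : Prop := ∃ r : ℕ, r.Prime ∧ r ≠ p ∧ PEl r w ∧ w ∉ center G

variable {p : ℕ}

omit [Finite G] in
theorem Setting.dvd_k (hs : Setting G n₁ n₂ k p) : p ∣ k := by
  have ht := Nat.minFac_prime hs.nest.k_gt.ne'
  exact (hs.kpow _ ht (Nat.minFac_dvd k)) ▸ Nat.minFac_dvd k

theorem Setting.exists_mem (hs : Setting G n₁ n₂ k p) {r : ℕ} (hr : r.Prime) (hrp : r ≠ p)
    (hri : r ∣ (center G).index) {x : G} (hx : x ∉ center G) :
    ∃ w ∈ C x, PEl r w ∧ w ∉ center G :=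
  hs.nest.exists_mem hr hri (fun hd => hrp (hs.kpow r hr hd)) hx

theorem Setting.exists_mem_third (hs : Setting G n₁ n₂ k p) {q : ℕ} (hq : q.Prime) {x : G}
    (hx : x ∉ center G) :
    ∃ r : ℕ, r.Prime ∧ r ≠ p ∧ r ≠ q ∧ ∃ w ∈ C x, PEl r w ∧ w ∉ center G := by
  obtain ⟨r, hr, hrp, hrq, hri⟩ := hs.nest.base.exists_third hs.hp hq
  exact ⟨r, hr, hrp, hrq, hs.exists_mem hr hrp hri hx⟩

theorem Setting.le₂_ne (hs : Setting G n₁ n₂ k p) {r s : ℕ} (hr : r.Prime) (hrp : r ≠ p)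
    (hs' : s.Prime) (hsr : s ≠ r) (hsp : s ≠ p) {w v : G} (hw : PEl r w) (hcl : cl w = n₂)
    (hv : v ∈ C w) (hvs : PEl s v) : C w ≤ C v := by
  have hco := orderOf_coprime_of_pel hr hs' hsr hvs
  rcases hs.nest.trichotomy hr hw hcl with h0 | ⟨⟨j, hj⟩, -⟩ | ⟨q, hq, hqr, hc⟩
  · exact h0 v hv hco
  · exact absurd ((Nat.prime_dvd_prime_iff_eq hs.hp hr).mp
      (hs.hp.dvd_of_dvd_pow (hj ▸ hs.dvd_k))).symm hrp
  by_cases hsq : s = q
  swap
  · exact hc s hs' hsr hsq v hv hvs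
  by_contra hne
  have hrel : (C v).relIndex (C w) = k :=
    (hs.nest.rel_cases hw hcl hv hco).resolve_left fun e => hne (relIndex_eq_one.mp e)
  obtain ⟨x, hx, hxp, hxne⟩ := prime_of_center_index hs.hp
    ((hrel ▸ hs.dvd_k).trans (relIndex_dvd_center_index hv))
  exact hxne (hc p hs.hp hrp.symm (hsq ▸ hsp.symm) x hx hxp)

theorem Setting.le₂ (hs : Setting G n₁ n₂ k p) {r s : ℕ} (hr : r.Prime) (hrp : r ≠ p)
    (hs' : s.Prime) (hsp : s ≠ p) {w v : G} (hw : PEl r w) (hcl : cl w = n₂) (hv : v ∈ C w)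
    (hvs : PEl s v) : C w ≤ C v := by
  by_cases hsr : s = r
  swap
  · exact hs.le₂_ne hr hrp hs' hsr hsp hw hcl hv hvs
  obtain ⟨t, ht, htp, htr, a, ha, hat, hac⟩ :=
    hs.exists_mem_third hr (hs.nest.base.notCenter₂ hcl)
  have heq := hs.nest.base.eq_of_le₂ hcl hac (hs.le₂_ne hr hrp ht htr htp hw hcl ha hat)
  have hcla : cl a = n₂ := by rw [cl, ← heq]; exact hcl
  rw [heq] at hv ⊢
  exact hs.le₂_ne ht htp hs' (hsr ▸ htr.symm) hsp hat hcla hv hvs

theorem Setting.le_prim (hs : Setting G n₁ n₂ k p) {r s : ℕ} (hr : r.Prime) (hrp : r ≠ p)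
    (hs' : s.Prime) (hsp : s ≠ p) {w v : G} (hw : PEl r w) (hwc : w ∉ center G) (hv : v ∈ C w)
    (hvs : PEl s v) : C w ≤ C v := by
  rcases hs.nest.base.cases hwc with e | e
  · exact hs.le₂ hr hrp hs' hsp hw e hv hvs
  have hmin := hs.nest.base.min_of_cl e
  by_cases hsr : s = r
  swap
  · exact min_central hmin hwc hw hv (orderOf_coprime_of_pel hr hs' hsr hvs)
  obtain ⟨t, ht, htp, htr, a, ha, hat, hac⟩ := hs.exists_mem_third hr hwc
  have hle := min_central hmin hwc hw ha (orderOf_coprime_of_pel hr ht htr hat)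
  have hcla : cl a = n₁ := by
    refine (hs.nest.base.cases hac).resolve_left fun e' => ?_
    have heq : C w = C a := le_antisymm hle (hs.le₂ ht htp hr hrp hat e' (C_comm ha) hw)
    have := hs.nest.base.lt
    rw [cl, heq, ← cl, e'] at e
    omega
  have heq : C w = C a := eq_of_le_of_cl_eq hle (by rw [hcla, e])
  rw [heq] at hv ⊢
  exact min_central (hs.nest.base.min_of_cl hcla) hac hat hv
    (orderOf_coprime_of_pel ht hs' (hsr ▸ htr.symm) hvs)

/-- In the centralizer of a noncentral `p'`-element of prime power order all `p`-regular elements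
are central. -/
theorem Setting.big_le (hs : Setting G n₁ n₂ k p) {w v : G} (hw : Big p w) (hv : v ∈ C w)
    (hco : (orderOf v).Coprime p) : C w ≤ C v := by
  obtain ⟨r, hr, hrp, hwr, hwc⟩ := hw
  by_contra hne
  obtain ⟨s, u, hs', hus, huz, huK⟩ :=
    exists_pel_notMem (centralizer (C w : Set G)) (x := v) fun hm => hne (mem_centralizer_C.mp hm)
  have hu1 : u ≠ 1 := fun e => huK (e ▸ one_mem _)
  have huv : orderOf u ∣ orderOf v := by
    obtain ⟨i, rfl⟩ := mem_zpowers_iff.mp huz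
    exact orderOf_dvd_of_mem_zpowers (zpow_mem (mem_zpowers v) i)
  exact huK (mem_centralizer_C.mpr (hs.le_prim hr hrp hs'
    (pel_of_coprime_dvd hus hu1 (hco.coprime_dvd_left huv)) hwr hwc
    ((zpowers_le.mpr hv) huz) hus))

omit [Finite G] in
theorem Big.coprime (hp : p.Prime) {w : G} (hw : Big p w) : (orderOf w).Coprime p := by
  obtain ⟨r, hr, hrp, hwr, -⟩ := hw
  exact orderOf_coprime_of_pel hp hr hrp hwr

/-- Commuting noncentral `p'`-elements of prime power order have the same centralizer. -/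
theorem Setting.comm_eq (hs : Setting G n₁ n₂ k p) {w w' : G} (hw : Big p w) (hw' : Big p w')
    (h : w' ∈ C w) : C w = C w' :=
  le_antisymm (hs.big_le hw h (hw'.coprime hs.hp)) (hs.big_le hw' (C_comm h) (hw.coprime hs.hp))

end CfsgLib.ClassSizesThreeIto
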