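import Cfsg.Agent.Lib.ClassSizesThreeIto.Tri
import Cfsg.Agent.Lib.ClassSizesThreeIto.NilpotentPrimary
import Cfsg.Agent.Lib.NormalPComplement.Basic
import Cfsg.Agent.Lib.Transfer.Abelian
import Cfsg.Agent.S4160

/-!
Class sizes `1, m, n₂, n₁` with `gcd(m, n₂) = 1` and `m ∣ n₁` in a centerless group: `G` is the
product of two centralizers of coprime orders and is solvable.
-/

set_option autoImplicit false

namespace CfsgLib.ClassSizesThreeIto

open Subgroup CfsgLib.ClassSizes3 CfsgLib.ClassSizesFour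

variable {G : Type*} [Group G] [Finite G] {n₁ m n₂ : ℕ}

theorem exists_pel_of_dvd_card {r : ℕ} [Fact r.Prime] {H : Subgroup G} (hd : r ∣ Nat.card H) :
    ∃ v ∈ H, PEl r v ∧ v ≠ 1 := by
  obtain ⟨⟨v, hv⟩, ho⟩ := exists_prime_orderOf_dvd_card' r hd
  rw [Subgroup.orderOf_mk] at ho
  refine ⟨v, hv, ⟨1, by rw [pow_one, ← ho, pow_orderOf_eq_one]⟩, fun e => ?_⟩
  rw [e, orderOf_one] at ho
  exact (Fact.out : r.Prime).ne_one ho.symm

omit [Finite G] in
/-- An extension of a solvable normal subgroup by a solvable quotient. -/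
theorem isSolvable_of_normal {N : Subgroup G} [N.Normal] (hN : Group.IsSolvable N)
    (hQ : Group.IsSolvable (G ⧸ N)) : Group.IsSolvable G :=
  Group.isSolvable_of_ker_le_range N.subtype (QuotientGroup.mk' N)
    (by rw [QuotientGroup.ker_mk', range_subtype])

/-- The intersection of the normal complements for a set of primes. -/
theorem exists_complements (S : Finset ℕ)
    (hS : ∀ r ∈ S, r.Prime ∧ Cfsg.HasNormalPComplement r G) :
    ∃ (N : Subgroup G) (_ : N.Normal), Group.IsSolvable (G ⧸ N) ∧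
      (∀ r ∈ S, ¬ r ∣ Nat.card N) ∧
      ∀ g : G, (∀ r ∈ S, (orderOf g).Coprime r) → g ∈ N := by
  induction S using Finset.induction_on with
  | empty =>
    refine ⟨⊤, inferInstance, ?_, by simp, fun g _ => mem_top g⟩
    exact Group.isSolvable_of_comm fun a b => by
      obtain ⟨a, rfl⟩ := QuotientGroup.mk_surjective a
      obtain ⟨b, rfl⟩ := QuotientGroup.mk_surjective b
      exact QuotientGroup.eq.mpr (mem_top _)
  | insert r S _ ih =>
    obtain ⟨N, hN, hQ, hNd, hNm⟩ := ih fun t ht => hS t (Finset.mem_insert_of_mem ht)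
    obtain ⟨hr, hc⟩ := hS r (Finset.mem_insert_self r S)
    have : Fact r.Prime := ⟨hr⟩
    refine ⟨Cfsg.pPrimeCore r G ⊓ N, inferInstance, ?_, ?_, fun g hg => ?_⟩
    · have hQr : Group.IsSolvable (G ⧸ Cfsg.pPrimeCore r G) := by
        have := (CfsgLib.NormalPComplement.hasNormalPComplement_iff_isPGroup_quotient.mp hc).isNilpotent
        infer_instance
      refine Group.isSolvable_of_isSolvable_injective
        (f := QuotientGroup.lift (Cfsg.pPrimeCore r G ⊓ N)
          ((QuotientGroup.mk' (Cfsg.pPrimeCore r G)).prod (QuotientGroup.mk' N)) fun g hg => ?_) ?_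
      · rw [MonoidHom.mem_ker, MonoidHom.prod_apply, Prod.mk_eq_one]
        exact ⟨(QuotientGroup.eq_one_iff g).mpr hg.1, (QuotientGroup.eq_one_iff g).mpr hg.2⟩
      · rw [← MonoidHom.ker_eq_bot_iff, eq_bot_iff]
        intro q hq
        obtain ⟨g, rfl⟩ := QuotientGroup.mk_surjective q
        rw [MonoidHom.mem_ker, QuotientGroup.lift_mk, MonoidHom.prod_apply, Prod.mk_eq_one] at hq
        exact mem_bot.mpr ((QuotientGroup.eq_one_iff g).mpr
          ⟨(QuotientGroup.eq_one_iff g).mp hq.1, (QuotientGroup.eq_one_iff g).mp hq.2⟩)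
    · intro t ht hd
      rcases Finset.mem_insert.mp ht with rfl | ht
      · exact CfsgLib.Cores.not_dvd_card_pPrimeCore (G := G) (p := t)
          (hd.trans (card_dvd_of_le inf_le_left))
      · exact hNd t ht (hd.trans (card_dvd_of_le inf_le_right))
    · exact ⟨CfsgLib.NormalPComplement.mem_pPrimeCore_of_coprime hc
        (hg r (Finset.mem_insert_self r S)),
        hNm g fun t ht => hg t (Finset.mem_insert_of_mem ht)⟩

/-- Two nilpotent subgroups of coprime orders with orders multiplying to at least `|G|`. -/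
theorem isSolvable_of_coprime_nilpotent {A B : Subgroup G} (hA : Group.IsNilpotent A)
    (hB : Group.IsNilpotent B) (hco : (Nat.card A).Coprime (Nat.card B))
    (hle : Nat.card G ≤ Nat.card A * Nat.card B) : Group.IsSolvable G := by
  refine CfsgLib.PSolvable.isSolvable_of_nilpotent_factors hA hB
    (CfsgLib.PSolvable.isFactor_of_card ?_)
  rwa [(Subgroup.disjoint_of_coprime_natCard hco).eq_bot, card_bot, mul_one]

theorem Tri.pi_m (h : Tri G n₁ m n₂) (hov : NoOverlap G m n₂) {p : ℕ} (hp : p.Prime) {x : G}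
    (hx : PEl p x) (hxm : cl x = m) : p ∣ n₂ := by
  by_contra hpn
  have : Fact p.Prime := ⟨hp⟩
  obtain ⟨q, y, hq, hy, hyc⟩ := h.symm.exists_X
  obtain ⟨c, hc⟩ := exists_conj_mem_C (x := y) (hyc ▸ hpn) hx
  by_cases hpq : p = q
  · exact hov p x y hp hx hxm (hpq ▸ hy) hyc
  · exact h.no_comm hp hq hpq hx hxm (hy.conj c) ((cl_conj c y).trans hyc) hc

theorem Tri.dvd_of_mem_C (h : Tri G n₁ m n₂) (hov : NoOverlap G m n₂) {p r : ℕ} (hp : p.Prime)
    (hr : r.Prime) {x : G} (hx : PEl p x) (hxm : cl x = m) (hd : r ∣ Nat.card (C x)) :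
    r ∣ n₂ := by
  by_cases hrp : r = p
  · exact hrp ▸ h.pi_m hov hp hx hxm
  have : Fact r.Prime := ⟨hr⟩
  obtain ⟨v, hv, hvr, hv1⟩ := exists_pel_of_dvd_card hd
  rcases h.cases (h.el hv1) with e | e | e
  · exact h.pi_m hov hr hvr e
  · exact absurd hv (h.no_comm hp hr (Ne.symm hrp) hx hxm hvr e)
  by_contra hrn
  have hle := (h.L_le hv e (PEl.coprime hp hr (Ne.symm hrp) hx hvr)).1
  obtain ⟨q, y, hq, hy, hyc⟩ := h.symm.exists_X
  obtain ⟨c, hc⟩ := exists_conj_mem_C (x := y) (hyc ▸ hrn) hvr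
  by_cases hpq : p = q
  · exact hov p x y hp hx hxm (hpq ▸ hy) hyc
  · exact h.no_comm hp hq hpq hx hxm (hy.conj c) ((cl_conj c y).trans hyc) (hle hc)

theorem Tri.card_C (h : Tri G n₁ m n₂) (hov : NoOverlap G m n₂) {p q : ℕ} (hp : p.Prime)
    (hq : q.Prime) {x y : G} (hx : PEl p x) (hxm : cl x = m) (hy : PEl q y) (hyn : cl y = n₂) :
    Nat.card (C x) = n₂ ∧ Nat.card G = m * n₂ := by
  have he : Nat.card (C x) * m = Nat.card (C y) * n₂ := by
    rw [← hxm, ← hyn, card_C_mul_cl, card_C_mul_cl]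
  have hco : (Nat.card (C x)).Coprime (Nat.card (C y)) :=
    Nat.coprime_of_dvd fun r hr h1 h2 => hr.ne_one (Nat.eq_one_of_dvd_coprimes h.cop
      (h.symm.dvd_of_mem_C hov.symm hq hr hy hyn h2) (h.dvd_of_mem_C hov hp hr hx hxm h1))
  have h1 : Nat.card (C x) ∣ n₂ := hco.dvd_of_dvd_mul_left ⟨m, he.symm⟩
  have h2 : n₂ ∣ Nat.card (C x) := h.cop.symm.dvd_of_dvd_mul_right ⟨Nat.card (C y), by rw [he]; ring⟩
  have h3 := Nat.dvd_antisymm h1 h2
  exact ⟨h3, by rw [← card_C_mul_cl x, h3, hxm, mul_comm]⟩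

theorem Tri.not_dvd_L (h : Tri G n₁ m n₂) (hm : m ∣ n₁) (hG : Nat.card G = m * n₂) :
    ¬ n₂ ∣ n₁ := by
  intro hd
  obtain ⟨z, hz⟩ := h.exL
  have h1 : Nat.card G ∣ cl z := by rw [hG, hz]; exact h.cop.mul_dvd_of_dvd_of_dvd hm hd
  have h2 := Nat.le_of_dvd (cl_pos z) h1
  rw [← card_C_mul_cl z] at h2
  have hzc : z ∉ center G := notCenter_of_cl h.one_L hz
  have h3 : 1 < Nat.card (C z) := (Subgroup.one_lt_card_iff_ne_bot _).mpr fun e => hzc (by
    have := self_mem_C z
    rw [e, mem_bot] at this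
    exact this ▸ one_mem _)
  have h4 := lt_mul_of_one_lt_left (cl_pos z) h3
  omega

theorem Tri.C_eq_of_Y (h : Tri G n₁ m n₂) (hnd : ¬ n₂ ∣ n₁) {q t : ℕ} (hq : q.Prime)
    (ht : t.Prime) (htq : t ≠ q) {y v : G} (hy : PEl q y) (hyn : cl y = n₂) (hv : v ∈ C y)
    (hvt : PEl t v) (hv1 : v ≠ 1) : C v = C y ∧ cl v = n₂ := by
  have hco := PEl.coprime hq ht (Ne.symm htq) hy hvt
  have hmul := C_mul (show Commute y v from (mem_C.mp hv).symm) hco
  have hd : n₂ ∣ cl (y * v) := hyn ▸ (cl_dvd_mul hv hco).1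
  have he : cl (y * v) = n₂ := (h.symm.eq_or_of_dvd hd).resolve_right fun e => hnd (e ▸ hd)
  have hle : C y ≤ C v := by
    rw [← eq_of_le_of_cl_eq (hmul.le.trans inf_le_left) (hyn.trans he.symm), hmul]
    exact inf_le_right
  have hvn : cl v = n₂ := h.symm.eq_of_dvd_m (h.el hv1) (hyn ▸ cl_dvd_of_le hle)
  exact ⟨(eq_of_le_of_cl_eq hle (hvn.trans hyn.symm)).symm, hvn⟩

theorem Tri.shape (h : Tri G n₁ m n₂) (hnd : ¬ n₂ ∣ n₁) {q : ℕ} (hq : q.Prime) {y : G}
    (hy : PEl q y) (hyn : cl y = n₂) :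
    IsPGroup q (C y) ∨ ∀ a ∈ C y, ∀ b ∈ C y, a * b = b * a := by
  by_cases hq' : ∀ t : ℕ, t.Prime → t ∣ Nat.card (C y) → t = q
  · exact Or.inl (IsPGroup.of_card (Nat.eq_prime_pow_of_unique_prime_dvd Nat.card_pos.ne'
      fun {d} hd hdv => hq' d hd hdv))
  right
  push Not at hq'
  obtain ⟨t, ht, htd, htq⟩ := hq'
  have : Fact t.Prime := ⟨ht⟩
  obtain ⟨v, hv, hvt, hv1⟩ := exists_pel_of_dvd_card htd
  obtain ⟨hCv, hvn⟩ := h.C_eq_of_Y hnd hq ht htq hy hyn hv hvt hv1
  intro a ha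
  suffices hz : C y ≤ C a from fun b hb => (mem_C.mp (hz hb)).symm
  by_contra hne
  obtain ⟨s, w, hs, hw, hwz, hwK⟩ :=
    exists_pel_notMem (centralizer (C y : Set G)) (x := a) fun hm => hne (mem_centralizer_C.mp hm)
  have hwy : w ∈ C y := (zpowers_le.mpr ha) hwz
  have hw1 : w ≠ 1 := fun e => hwK (e ▸ one_mem _)
  refine hwK (mem_centralizer_C.mpr (le_of_eq ?_))
  by_cases hsq : s = q
  · rw [← hCv] at hwy ⊢
    exact (h.C_eq_of_Y hnd ht hs (hsq ▸ Ne.symm htq) hvt hvn hwy hw hw1).1.symm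
  · exact (h.C_eq_of_Y hnd hq hs hsq hy hyn hwy hw hw1).1.symm

theorem Tri.isSolvable_C (h : Tri G n₁ m n₂) {k p : ℕ} (hk : n₁ = m * k) (hp : p.Prime) {x : G}
    (hx : PEl p x) (hxm : cl x = m) : Group.IsSolvable (C x) := by
  rcases h.trichotomy hk hp hx hxm with h0 | ⟨-, H, hHle, hHc, hHp, hHi⟩ | ⟨q, hq, -, hc⟩
  · exact isSolvable_of_central hp hp fun t ht htp _ v hv hvt =>
      h0 v hv (orderOf_coprime_of_pel hp ht htp hvt)
  · exact isSolvable_of_complement hp hHle hHc hHp hHi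
  · exact isSolvable_of_central hp hq hc

/-- If `k` has a prime other than `p`, `C(x)` is nilpotent. -/
theorem Tri.isNilpotent_C (h : Tri G n₁ m n₂) {k p r : ℕ} (hk : n₁ = m * k) (hp : p.Prime)
    (hr : r.Prime) (hrp : r ≠ p) (hrk : r ∣ k) (hrn : r ∣ n₂) {x : G} (hx : PEl p x)
    (hxm : cl x = m) (hcard : Nat.card (C x) = n₂) : Group.IsNilpotent (C x) := by
  have : Fact r.Prime := ⟨hr⟩
  have hrL : r ∣ n₁ := hk ▸ hrk.mul_left m
  have hrm : ¬ r ∣ m := fun hd => hr.ne_one (Nat.eq_one_of_dvd_coprimes h.cop hd hrn)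
  obtain ⟨R, hR⟩ := exists_sylowIn (p := r) (C x)
  have hR' := hR.full (show ¬ r ∣ (C x).index by rwa [show (C x).index = m from hxm])
  have : Nontrivial R := by
    rw [Subgroup.nontrivial_iff_ne_bot, ← Subgroup.one_lt_card_iff_ne_bot, hR.card]
    exact Nat.one_lt_pow (hr.factorization_pos_of_dvd Nat.card_pos.ne' (hcard.symm ▸ hrn)).ne'
      hr.one_lt
  have := hR.isPGroup.center_nontrivial
  obtain ⟨⟨⟨u, huR⟩, huz⟩, hu1⟩ := exists_ne (1 : center R)
  have hu1' : u ≠ 1 := fun e => hu1 (Subtype.ext (Subtype.ext e))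
  have hRu : R ≤ C u := mem_center_subtype.mp huz
  have hur : PEl r u := PEl.of_mem hR.isPGroup huR
  have hum : cl u = m := by
    have hd := not_dvd_cl_of_le hR' hRu
    rcases h.cases (h.el hu1') with e | e | e
    · exact e
    · exact absurd (e.symm ▸ hrn) hd
    · exact absurd (e.symm ▸ hrL) hd
  have hux : u ∈ C x := hR.le huR
  have hco := PEl.coprime hp hr (Ne.symm hrp) hx hur
  have hmul := C_mul (show Commute x u from (mem_C.mp hux).symm) hco
  have hxu : cl (x * u) = m :=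
    (h.eq_or_of_dvd (hxm ▸ (cl_dvd_mul hux hco).1)).resolve_right fun e =>
      not_dvd_cl_of_le hR' (show R ≤ C (x * u) from hmul ▸ le_inf hR.le hRu) (e.symm ▸ hrL)
  have hCu : C x = C u := eq_of_le_of_cl_eq (by
    rw [← eq_of_le_of_cl_eq (hmul.le.trans inf_le_left) (hxm.trans hxu.symm), hmul]
    exact inf_le_right) (hum.trans hxm.symm)
  have := h.isSolvable_C hk hp hx hxm
  refine PrimarySame.isNilpotent fun s t a b hs ht ha hb hac hbc => ?_
  suffices key : ∀ (s : ℕ) (a : C x), s.Prime → PEl s a → a ∉ center (C x) → cl a = k by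
    rw [key s a hs ha hac, key t b ht hb hbc]
  intro s a hs ha hac
  show (centralizer ({a} : Set (C x))).index = k
  rw [index_centralizer_subtype]
  have hne : (C (a : G)).relIndex (C x) ≠ 1 := fun e =>
    hac (mem_center_subtype.mpr (relIndex_eq_one.mp e))
  by_cases hsp : s = p
  · have hau : (a : G) ∈ C u := hCu ▸ a.2
    rcases h.rel_cases hk hur hum hau
      (orderOf_coprime_of_pel hr hs (hsp ▸ Ne.symm hrp) (pel_coe.mpr ha)) with e | e
    · exact absurd ((congrArg ((C (a : G)).relIndex ·) hCu).trans e) hne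
    · exact (congrArg ((C (a : G)).relIndex ·) hCu).trans e
  · exact (h.rel_cases hk hx hxm a.2
      (orderOf_coprime_of_pel hp hs hsp (pel_coe.mpr ha))).resolve_left hne

/-- With `m ∣ n₁`, a centerless group with class sizes `1, m, n₂, n₁` is solvable. -/
theorem Tri.false (h : Tri G n₁ m n₂) (hm : m ∣ n₁) : False := by
  apply h.notSolv
  have hov := h.noOverlap hm
  obtain ⟨p, x, hp, hx, hxm⟩ := h.exists_X
  obtain ⟨q, y, hq, hy, hyn⟩ := h.symm.exists_X
  obtain ⟨hcX, hG⟩ := h.card_C hov hp hq hx hxm hy hyn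
  obtain ⟨hcY, -⟩ := h.symm.card_C hov.symm hq hp hy hyn hx hxm
  have hnd := h.not_dvd_L hm hG
  have hshape := h.shape hnd hq hy hyn
  have : Fact p.Prime := ⟨hp⟩
  have : Fact q.Prime := ⟨hq⟩
  have hqm : q ∣ m := h.symm.pi_m hov.symm hq hy hyn
  have hqn : ¬ q ∣ n₂ := fun hd => hq.ne_one (Nat.eq_one_of_dvd_coprimes h.cop hqm hd)
  have hTnil : Group.IsNilpotent (C y) := by
    rcases hshape with hT | hT
    · exact hT.isNilpotent
    · let : CommGroup (C y) :=
        { (inferInstance : Group (C y)) with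
          mul_comm := fun a b => Subtype.ext (hT a a.2 b b.2) }
      infer_instance
  obtain ⟨k, hk⟩ := hm
  have hKsol := h.isSolvable_C hk hp hx hxm
  have hkn : k ∣ n₂ := by
    obtain ⟨z, hz⟩ := h.exL
    have h1 : n₁ ∣ Nat.card G := hz ▸ Subgroup.index_dvd_card (C z)
    rw [hG, hk] at h1
    exact Nat.dvd_of_mul_dvd_mul_left (Nat.zero_lt_of_lt h.one_m) h1
  by_cases hkp : ∃ r : ℕ, r.Prime ∧ r ≠ p ∧ r ∣ k
  · obtain ⟨r, hr, hrp, hrk⟩ := hkp
    exact isSolvable_of_coprime_nilpotent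
      (h.isNilpotent_C hk hp hr hrp hrk (hrk.trans hkn) hx hxm hcX) hTnil
      (by rw [hcX, hcY]; exact h.cop.symm) (by rw [hcX, hcY, hG, mul_comm])
  push Not at hkp
  have hS4160 : ∀ r : ℕ, r.Prime → r ≠ p → r ∣ n₂ →
      Cfsg.HasNormalPComplement r G ∨ Cfsg.HasNormalPComplement q G := by
    intro r hr hrp hrn
    have hrm : ¬ r ∣ m := fun hd => hr.ne_one (Nat.eq_one_of_dvd_coprimes h.cop hd hrn)
    refine Cfsg.Agent.S4160.result r q hr hq (fun e => hqn (e ▸ hrn)) ⟨y, hrn.trans hyn.symm.dvd⟩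
      ⟨x, hqm.trans hxm.symm.dvd⟩ fun z hd => ?_
    have hdr : r ∣ cl z := dvd_of_mul_right_dvd hd
    have hdq : q ∣ cl z := dvd_of_mul_left_dvd hd
    rcases h.vals z with e | e | e | e <;> rw [e] at hdr hdq
    · exact hr.ne_one (Nat.dvd_one.mp hdr)
    · exact hrm hdr
    · exact hqn hdq
    · exact (hr.dvd_mul.mp (hk ▸ hdr)).elim hrm (hkp r hr hrp)
  by_cases hqc : Cfsg.HasNormalPComplement q G
  swap
  · obtain ⟨N, hN, hQ, hNd, hNm⟩ := exists_complements (G := G) (n₂.primeFactors.erase p)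
      fun r hr => by
        rw [Finset.mem_erase, Nat.mem_primeFactors] at hr
        exact ⟨hr.2.1, (hS4160 r hr.2.1 hr.1 hr.2.2.1).resolve_right hqc⟩
    obtain ⟨P, hP⟩ := exists_sylowIn (p := p) (C x)
    have hcP : Nat.card P = p ^ n₂.factorization p := hcX ▸ hP.card
    have hPN : P ≤ N := fun g hg => hNm g fun r hr => by
      rw [Finset.mem_erase, Nat.mem_primeFactors] at hr
      exact orderOf_coprime_of_pel hr.2.1 hp hr.1.symm (PEl.of_mem hP.isPGroup hg)
    have hTN : C y ≤ N := fun g hg => hNm g fun r hr => by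
      rw [Finset.mem_erase, Nat.mem_primeFactors] at hr
      refine (hr.2.1.coprime_iff_not_dvd.mpr fun hd => ?_).symm
      exact hr.2.1.ne_one (Nat.eq_one_of_dvd_coprimes h.cop
        (hd.trans (hcY ▸ Subgroup.orderOf_dvd_natCard _ hg)) hr.2.2.1)
    have hn0 : n₂ ≠ 0 := by have := h.one_n₂; omega
    have hco : (Nat.card N).Coprime (n₂ / p ^ n₂.factorization p) := by
      refine Nat.coprime_of_dvd fun r hr h1 h2 => ?_
      have hrp : r ≠ p := fun e => Nat.not_dvd_ordCompl hp hn0 (e ▸ h2)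
      exact hNd r (Finset.mem_erase.mpr ⟨hrp, Nat.mem_primeFactors.mpr
        ⟨hr, h2.trans (Nat.ordCompl_dvd _ _), hn0⟩⟩) h1
    have hdvd : Nat.card N ∣ m * p ^ n₂.factorization p := by
      refine hco.dvd_of_dvd_mul_right ?_
      rw [mul_assoc, Nat.ordProj_mul_ordCompl_eq_self, ← hG]
      exact card_subgroup_dvd_card N
    have hNsol : Group.IsSolvable N := by
      have hcT : Nat.card ((C y).subgroupOf N) = m :=
        (Nat.card_congr (subgroupOfEquivOfLe hTN).toEquiv).trans hcY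
      have hcP' : Nat.card (P.subgroupOf N) = p ^ n₂.factorization p :=
        (Nat.card_congr (subgroupOfEquivOfLe hPN).toEquiv).trans hcP
      refine isSolvable_of_coprime_nilpotent (A := (C y).subgroupOf N) (B := P.subgroupOf N)
        (Group.nilpotent_of_mulEquiv (subgroupOfEquivOfLe hTN).symm)
        ((hP.isPGroup.of_equiv (subgroupOfEquivOfLe hPN).symm).isNilpotent) ?_ ?_
      · rw [hcT, hcP']
        exact (Nat.Coprime.pow_right _ ((hp.coprime_iff_not_dvd.mpr fun hd =>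
          hp.ne_one (Nat.eq_one_of_dvd_coprimes h.cop hd (h.pi_m hov hp hx hxm))).symm))
      · rw [hcT, hcP']
        exact Nat.le_of_dvd (Nat.mul_pos (Nat.zero_lt_of_lt h.one_m) (pow_pos hp.pos _)) hdvd
    exact isSolvable_of_normal hNsol hQ
  rcases hshape with hT | hT
  · have hKM : C x = Cfsg.pPrimeCore q G := by
      refine eq_of_le_of_card_ge (fun g hg => CfsgLib.NormalPComplement.mem_pPrimeCore_of_coprime hqc
        ((hq.coprime_iff_not_dvd.mpr fun hd => hqn
          (hd.trans (hcX ▸ Subgroup.orderOf_dvd_natCard _ hg))).symm)) ?_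
      rw [hcX]
      obtain ⟨i, hi⟩ := IsPGroup.iff_card.mp hT
      refine Nat.le_of_dvd (Nat.zero_lt_of_lt h.one_n₂)
        ((((CfsgLib.Cores.card_pPrimeCore_coprime q).pow_right i).dvd_of_dvd_mul_left) ?_)
      rw [← hi, hcY, ← hG]
      exact card_subgroup_dvd_card _
    have hQ : Group.IsSolvable (G ⧸ Cfsg.pPrimeCore q G) := by
      have := (CfsgLib.NormalPComplement.hasNormalPComplement_iff_isPGroup_quotient.mp hqc).isNilpotent
      infer_instance
    exact isSolvable_of_normal (hKM ▸ hKsol) hQ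
  have hfac : CfsgLib.PSolvable.IsFactor (C x) (C y) := by
    refine CfsgLib.PSolvable.isFactor_of_card (le_of_eq ?_)
    rw [(Subgroup.disjoint_of_coprime_natCard (by rw [hcX, hcY]; exact h.cop.symm)).eq_bot, card_bot, mul_one, hcX,
      hcY, hG, mul_comm]
  -- `T` is self-normalising
  have hNT : ∀ g : G, (∀ a ∈ C y, g * a * g⁻¹ ∈ C y) → g ∈ C y := by
    intro g hg
    set M := Cfsg.pPrimeCore q G
    have hrep : ∀ a : G, ∃ t ∈ C y, (a : G ⧸ M) = (t : G ⧸ M) := fun a => by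
      obtain ⟨c, hc, t, ht, he⟩ := hfac a
      refine ⟨t, ht, ?_⟩
      rw [he, QuotientGroup.mk_mul, (QuotientGroup.eq_one_iff c).mpr
        (CfsgLib.NormalPComplement.mem_pPrimeCore_of_coprime hqc
          ((hq.coprime_iff_not_dvd.mpr fun hd => hqn
            (hd.trans (hcX ▸ Subgroup.orderOf_dvd_natCard _ hc))).symm)), one_mul]
    obtain ⟨t, ht, het⟩ := hrep g
    set d := g * y * g⁻¹ * y⁻¹ with hd
    have hdM : d ∈ M := by
      rw [← QuotientGroup.eq_one_iff, hd]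
      simp only [QuotientGroup.mk_mul, QuotientGroup.mk_inv]
      have hc : (t : G ⧸ M) * (y : G ⧸ M) = (y : G ⧸ M) * (t : G ⧸ M) := by
        rw [← QuotientGroup.mk_mul, ← QuotientGroup.mk_mul, hT t ht y (self_mem_C y)]
      rw [het, hc]
      group
    have hdq : PEl q d :=
      (hy.conj g).mul hy.inv (show Commute (g * y * g⁻¹) y⁻¹ from
        hT _ (hg y (self_mem_C y)) _ (inv_mem (self_mem_C y)))
    obtain ⟨e, he⟩ := hdq
    have hd1 : d = 1 := orderOf_eq_one_iff.mp (Nat.eq_one_of_dvd_coprimes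
      ((CfsgLib.Cores.card_pPrimeCore_coprime q).pow_right e)
      (Subgroup.orderOf_dvd_natCard _ hdM) (orderOf_dvd_of_pow_eq_one he))
    rw [hd, mul_inv_eq_one, mul_inv_eq_iff_eq_mul] at hd1
    exact mem_C.mpr hd1
  obtain ⟨N, hN, hQ, hNd, hNm⟩ := exists_complements (G := G) m.primeFactors fun t ht => by
    rw [Nat.mem_primeFactors] at ht
    refine ⟨ht.1, ?_⟩
    have : Fact t.Prime := ⟨ht.1⟩
    obtain ⟨R, hR⟩ := exists_sylowIn (p := t) (C y)
    have htn : ¬ t ∣ n₂ := fun hd => ht.1.ne_one (Nat.eq_one_of_dvd_coprimes h.cop ht.2.1 hd)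
    have hR' := hR.full (show ¬ t ∣ (C y).index by rwa [show (C y).index = n₂ from hyn])
    let S : Sylow t G := Sylow.ofCard R (by rw [hR'.card, card_top])
    refine CfsgLib.Transfer.hasNormalPComplement_of_le_centralizer S fun g hg => ?_
    have hS : (S : Subgroup G) = R := rfl
    suffices hgT : g ∈ C y from mem_centralizer_iff.mpr fun a ha => hT a (hR.le ha) g hgT
    obtain ⟨w, hw, hwt, hw1⟩ := exists_pel_of_dvd_card (H := R) (r := t) (by
      rw [hR.card, hcY]
      exact dvd_pow_self t (ht.1.factorization_pos_of_dvd ht.2.2 ht.2.1).ne')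
    have hCw : ∀ a ∈ C y, a ≠ 1 → C a = C y := fun a ha ha1 => by
      have hle : C y ≤ C a := fun b hb => mem_C.mpr (hT b hb a ha)
      exact (eq_of_le_of_cl_eq hle
        ((h.symm.eq_of_dvd_m (h.el ha1) (hyn ▸ cl_dvd_of_le hle)).trans hyn.symm)).symm
    have hgw : g * w * g⁻¹ ∈ R := hS ▸ (mem_normalizer_iff.mp hg w).mp (hS.symm ▸ hw)
    have hgw1 : g * w * g⁻¹ ≠ 1 := fun e => hw1 (conj_eq_one_iff.mp e)
    refine hNT g fun a ha => ?_
    rw [← hCw _ (hR.le hgw) hgw1]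
    exact conj_mem_conj (hCw w (hR.le hw) hw1 ▸ ha)
  have hNK : C x = N := by
    refine eq_of_le_of_card_ge (fun g hg => hNm g fun t ht => ?_) ?_
    · rw [Nat.mem_primeFactors] at ht
      exact (ht.1.coprime_iff_not_dvd.mpr fun hd => ht.1.ne_one (Nat.eq_one_of_dvd_coprimes h.cop
        ht.2.1 (hd.trans (hcX ▸ Subgroup.orderOf_dvd_natCard _ hg)))).symm
    · rw [hcX]
      refine Nat.le_of_dvd (Nat.zero_lt_of_lt h.one_n₂) ((Nat.coprime_of_dvd fun t ht h1 h2 => hNd t
        (Nat.mem_primeFactors.mpr ⟨ht, h2, by have := h.one_m; omega⟩) h1).dvd_of_dvd_mul_left ?_)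
      rw [← hG]
      exact card_subgroup_dvd_card _
  exact isSolvable_of_normal (hNK ▸ hKsol) hQ

end CfsgLib.ClassSizesThreeIto
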