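import Cfsg.Agent.Lib.CharDegrees.PSLTwoClasses
import Cfsg.Agent.Lib.Derangements.PGL2Basic
import Cfsg.Agent.Lib.Suzuki.Partition
import Cfsg.Agent.Lib.Suzuki.FixityTwo
import Cfsg.Agent.Lib.Suzuki.LieBridge

/-!
`PSL₂`, `PGL₂` and the Suzuki groups have three elements, for any two of which the order of one
does not divide the centralizer order of the other.
-/

set_option autoImplicit false
set_option linter.unusedSectionVars false

namespace CfsgLib.ClassSizesThreeIto

open scoped MatrixGroups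

/-- The order of one of the two elements does not divide the centralizer order of the other. -/
def Apart {X : Type*} [Group X] (a b : X) : Prop :=
  ¬ orderOf a ∣ Nat.card (Subgroup.centralizer ({b} : Set X)) ∨
    ¬ orderOf b ∣ Nat.card (Subgroup.centralizer ({a} : Set X))

/-- Three elements pairwise apart. -/
def Three (X : Type*) [Group X] : Prop :=
  ∃ a b c : X, a ≠ 1 ∧ b ≠ 1 ∧ c ≠ 1 ∧ Apart a b ∧ Apart a c ∧ Apart b c

theorem card_centralizer_equiv {X Y : Type*} [Group X] [Group Y] (e : X ≃* Y) (a : X) :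
    Nat.card (Subgroup.centralizer ({e a} : Set Y)) = Nat.card (Subgroup.centralizer ({a} : Set X)) := by
  symm
  refine Nat.card_congr (e.toEquiv.subtypeEquiv fun x => ?_)
  rw [Subgroup.mem_centralizer_singleton_iff, Subgroup.mem_centralizer_singleton_iff,
    MulEquiv.toEquiv_eq_coe, EquivLike.coe_coe, ← map_mul, ← map_mul, EmbeddingLike.apply_eq_iff_eq]

theorem Apart.map {X Y : Type*} [Group X] [Group Y] (e : X ≃* Y) {a b : X} (h : Apart a b) :
    Apart (e a) (e b) := by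
  unfold Apart
  rw [card_centralizer_equiv, card_centralizer_equiv, MulEquiv.orderOf_eq, MulEquiv.orderOf_eq]
  exact h

theorem Three.map {X Y : Type*} [Group X] [Group Y] (e : X ≃* Y) (h : Three X) : Three Y := by
  obtain ⟨a, b, c, ha, hb, hc, hab, hac, hbc⟩ := h
  exact ⟨e a, e b, e c, by simpa using ha, by simpa using hb, by simpa using hc, hab.map e,
    hac.map e, hbc.map e⟩

section PSL

open CfsgLib.CharDegrees CfsgLib.SL2
open CfsgLib.ClassicalLinear (upS upS_coe upS_add upS_injective)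

variable {F : Type*} [Field F] [Fintype F]

theorem card_centralizer_torus {g : SL(2, F)} (ht : tr g ^ 2 ≠ 4) :
    Nat.card (Subgroup.centralizer ({proj₂ g} : Set (Matrix.ProjectiveSpecialLinearGroup (Fin 2) F))) ∣
      Nat.card (Subgroup.centralizer ({g} : Set (SL(2, F)))) := by
  have he := card_centralizer_proj₂ g
  by_cases h2 : (2 : F) = 0
  · rw [Nat.card_congr (Equiv.subtypeEquivRight (conj_eq_or_neg_iff (Or.inr h2))),
      (char_two_facts h2).1, mul_one] at he
    exact he.dvd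
  rw [(odd_facts h2).1] at he
  by_cases h0 : tr g = 0
  · rw [Nat.card_congr (Equiv.subtypeEquivRight (conj_eq_or_neg_iff_normalizer h2 h0)),
      show Nat.card {h // h ∈ Subgroup.normalizer ((Subgroup.centralizer ({g} : Set (SL(2, F))) :
        Subgroup (SL(2, F))) : Set (SL(2, F)))} = _ from card_normalizer ht, mul_comm] at he
    exact (Nat.eq_of_mul_eq_mul_left two_pos he).dvd
  · rw [Nat.card_congr (Equiv.subtypeEquivRight (conj_eq_or_neg_iff (Or.inl ⟨h0, h2⟩)))] at he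
    exact ⟨2, he.symm⟩

theorem exists_unipotent :
    ∃ (p : ℕ) (u : Matrix.ProjectiveSpecialLinearGroup (Fin 2) F), p.Prime ∧ p ∣ Fintype.card F ∧
      orderOf u = p ∧
      Nat.card (Subgroup.centralizer ({u} : Set (Matrix.ProjectiveSpecialLinearGroup (Fin 2) F))) =
        Fintype.card F := by
  obtain ⟨p, hp⟩ := CharP.exists F
  obtain ⟨n, hpp, hn⟩ := FiniteField.card F p
  have : Fact p.Prime := ⟨hpp⟩
  set g : SL(2, F) := upS 1
  have hgc : g ∉ Subgroup.center (SL(2, F)) := fun hc => one_ne_zero ((upS_mem_center_iff (1 : F)).1 hc)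
  have htr : tr g ^ 2 = 4 := by
    simp [g, tr, upS_coe]
    norm_num
  have hor : tr g ≠ 0 ∧ (2 : F) ≠ 0 ∨ (2 : F) = 0 := by
    by_cases h2 : (2 : F) = 0
    · exact Or.inr h2
    · exact Or.inl ⟨fun h0 => mul_self_ne_zero.2 h2 (by rw [h0] at htr; linear_combination -htr), h2⟩
  refine ⟨p, proj₂ g, hpp, hn ▸ dvd_pow_self p n.pos.ne', ?_, ?_⟩
  · refine orderOf_eq_prime ?_ fun h => ?_
    · rw [← map_pow, upS_pow, mul_one, CharP.cast_eq_zero, upS_zero, map_one]
    · exact hgc ((CfsgLib.SL2.mem_center_iff g).2 ((proj₂_eq_one_iff g).1 h))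
  · have he := card_centralizer_proj₂ g
    rw [Nat.card_congr (Equiv.subtypeEquivRight (conj_eq_or_neg_iff hor)),
      show Nat.card {h // h ∈ Subgroup.centralizer ({g} : Set (SL(2, F)))} = _ from
        card_centralizer_tr_sq_eq hgc htr, mul_comm] at he
    rw [← Nat.card_eq_fintype_card (α := F)]
    exact Nat.eq_of_mul_eq_mul_left Nat.card_pos he

theorem exists_torus (h4 : 4 ≤ Fintype.card F) {e : ℕ}
    (he : e = Nat.card F - 1 ∨ e = Nat.card F + 1) :
    ∃ g : Matrix.ProjectiveSpecialLinearGroup (Fin 2) F, g ≠ 1 ∧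
      e / Nat.gcd 2 (Fintype.card F - 1) ∣ orderOf g ∧
      Nat.card (Subgroup.centralizer ({g} : Set (Matrix.ProjectiveSpecialLinearGroup (Fin 2) F))) ∣ e := by
  obtain ⟨g, ht, -, hc, ho⟩ := exists_orderOf_proj₂ h4 he
  refine ⟨proj₂ g, fun h => ht ?_, ho, hc ▸ card_centralizer_torus ht⟩
  rcases (proj₂_eq_one_iff g).1 h with rfl | rfl <;> simp [tr] <;> norm_num

theorem not_dvd_sub {q p : ℕ} (hq : 1 < q) (hp : p.Prime) (hpq : p ∣ q) :
    ¬ p ∣ q - 1 ∧ ¬ p ∣ q + 1 := by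
  refine ⟨fun h => ?_, fun h => ?_⟩
  · have h1 : p ∣ q - (q - 1) := Nat.dvd_sub hpq h
    rw [show q - (q - 1) = 1 by omega, Nat.dvd_one] at h1
    exact hp.ne_one h1
  · exact hp.ne_one (Nat.dvd_one.1 ((Nat.dvd_add_right hpq).1 h))

theorem three_psl (h4 : 4 ≤ Fintype.card F) :
    Three (Matrix.ProjectiveSpecialLinearGroup (Fin 2) F) := by
  have hq : Nat.card F = Fintype.card F := Nat.card_eq_fintype_card
  obtain ⟨p, u, hp, hpq, huo, -⟩ := exists_unipotent (F := F)
  obtain ⟨a, ha1, -, hac⟩ := exists_torus h4 (e := Nat.card F - 1) (Or.inl rfl)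
  obtain ⟨b, hb1, hbo, hbc⟩ := exists_torus h4 (e := Nat.card F + 1) (Or.inr rfl)
  rw [hq] at hac hbo hbc
  obtain ⟨hn1, hn2⟩ := not_dvd_sub (by omega) hp hpq
  refine ⟨u, a, b, ?_, ha1, hb1, Or.inl (huo ▸ fun h => hn1 (h.trans hac)),
    Or.inl (huo ▸ fun h => hn2 (h.trans hbc)), Or.inr fun h => ?_⟩
  · intro h
    rw [h, orderOf_one] at huo
    exact hp.ne_one huo.symm
  have h1 := (hbo.trans h).trans hac
  set d := Nat.gcd 2 (Fintype.card F - 1)
  have hd : d = 1 ∨ d = 2 := (Nat.dvd_prime Nat.prime_two).1 (Nat.gcd_dvd_left _ _)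
  have hdd : d ∣ Fintype.card F + 1 := by
    have h' : d ∣ Fintype.card F - 1 := Nat.gcd_dvd_right _ _
    have h2 : d ∣ 2 := Nat.gcd_dvd_left _ _
    rw [show Fintype.card F + 1 = (Fintype.card F - 1) + 2 by omega]
    exact dvd_add h' h2
  have h2 : (Fintype.card F + 1) / d ∣ 2 := by
    have h3 := Nat.div_dvd_of_dvd hdd
    have h4' := Nat.dvd_sub h3 h1
    rwa [show Fintype.card F + 1 - (Fintype.card F - 1) = 2 by omega] at h4'
  have h3 := Nat.le_of_dvd two_pos h2
  rcases hd with e | e <;> rw [e] at h3 hdd <;> omega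

theorem card_centralizer_pgl (h2 : (2 : F) ≠ 0) (x : Matrix.ProjectiveSpecialLinearGroup (Fin 2) F) :
    Nat.card (Subgroup.centralizer ({CfsgLib.Derangements.PSL2.pslToPGL x} :
      Set (Matrix.ProjGenLinGroup (Fin 2) F))) ∣
      2 * Nat.card (Subgroup.centralizer ({x} : Set (Matrix.ProjectiveSpecialLinearGroup (Fin 2) F))) := by
  set ι := CfsgLib.Derangements.PSL2.pslToPGL (F := F)
  set C := Subgroup.centralizer ({ι x} : Set (Matrix.ProjGenLinGroup (Fin 2) F))
  have h1 : Nat.card (ι.range ⊓ C : Subgroup _) =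
      Nat.card (Subgroup.centralizer ({x} : Set (Matrix.ProjectiveSpecialLinearGroup (Fin 2) F))) := by
    have he : (ι.range ⊓ C : Subgroup _) = (C.comap ι).map ι := by
      rw [Subgroup.map_comap_eq]
    rw [he, Subgroup.card_map_of_injective CfsgLib.Derangements.PSL2.pslToPGL_injective]
    refine Nat.card_congr (Equiv.subtypeEquivRight fun y => ?_)
    rw [Subgroup.mem_comap, Subgroup.mem_centralizer_singleton_iff,
      Subgroup.mem_centralizer_singleton_iff, ← map_mul, ← map_mul,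
      CfsgLib.Derangements.PSL2.pslToPGL_injective.eq_iff]
  have h3 : ι.range.relIndex C ∣ 2 := by
    have := Subgroup.relIndex_dvd_index_of_normal ι.range C
    rwa [CfsgLib.Derangements.PSL2.index_range_pslToPGL h2] at this
  have h4 := Subgroup.relIndex_mul_relIndex ⊥ (ι.range ⊓ C) C bot_le inf_le_right
  rw [Subgroup.relIndex_bot_left, Subgroup.relIndex_bot_left, Subgroup.inf_relIndex_right, h1] at h4
  rw [← h4, mul_comm 2]
  exact Nat.mul_dvd_mul_left _ h3

theorem three_pgl (h5 : 5 ≤ Fintype.card F) (hodd : Odd (Fintype.card F)) :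
    Three (Matrix.ProjGenLinGroup (Fin 2) F) := by
  have hq : Nat.card F = Fintype.card F := Nat.card_eq_fintype_card
  have hd : ¬ 2 ∣ Fintype.card F := fun h => Nat.not_even_iff_odd.2 hodd (even_iff_two_dvd.2 h)
  have h2 : (2 : F) ≠ 0 := fun h => hd (char_two_facts h).2.2
  obtain ⟨p, u, hp, hpq, huo, -⟩ := exists_unipotent (F := F)
  obtain ⟨a, ha1, hao, hac⟩ := exists_torus (by omega) (e := Nat.card F - 1) (Or.inl rfl)
  obtain ⟨b, hb1, hbo, hbc⟩ := exists_torus (by omega) (e := Nat.card F + 1) (Or.inr rfl)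
  rw [hq, (odd_facts h2).2.1] at hao hbo
  rw [hq] at hac hbc
  set ι := CfsgLib.Derangements.PSL2.pslToPGL (F := F)
  have hinj : Function.Injective ι := CfsgLib.Derangements.PSL2.pslToPGL_injective
  have hca := (card_centralizer_pgl h2 a).trans (mul_dvd_mul_left 2 hac)
  have hcb := (card_centralizer_pgl h2 b).trans (mul_dvd_mul_left 2 hbc)
  obtain ⟨hn1, hn2⟩ := not_dvd_sub (by omega) hp hpq
  have hp2 : ¬ p ∣ 2 := fun h => hd (((Nat.prime_dvd_prime_iff_eq hp Nat.prime_two).1 h) ▸ hpq)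
  have huo' : orderOf (ι u) = p := (orderOf_injective ι hinj u).trans huo
  refine ⟨ι u, ι a, ι b, ?_, ?_, ?_,
    Or.inl (huo' ▸ fun h => (hp.dvd_mul.1 (h.trans hca)).elim hp2 hn1),
    Or.inl (huo' ▸ fun h => (hp.dvd_mul.1 (h.trans hcb)).elim hp2 hn2), ?_⟩
  · intro h
    rw [h, orderOf_one] at huo'
    exact hp.ne_one huo'.symm
  · exact fun h => ha1 (hinj (h.trans (map_one ι).symm))
  · exact fun h => hb1 (hinj (h.trans (map_one ι).symm))
  by_cases ho : Odd ((Fintype.card F + 1) / 2)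
  · right
    intro h
    rw [orderOf_injective ι hinj] at h
    have h1 := (Nat.coprime_two_right.2 ho).dvd_of_dvd_mul_left ((hbo.trans h).trans hca)
    have h3 : (Fintype.card F + 1) / 2 ∣ Fintype.card F + 1 := Nat.div_dvd_of_dvd (by omega)
    have h4 := Nat.le_of_dvd two_pos
      (show Fintype.card F + 1 - (Fintype.card F - 1) = 2 by omega ▸ Nat.dvd_sub h3 h1)
    omega
  · left
    intro h
    rw [orderOf_injective ι hinj] at h
    have ho' : Odd ((Fintype.card F - 1) / 2) := by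
      rw [Nat.odd_iff] at ho ⊢
      omega
    have h1 := (Nat.coprime_two_right.2 ho').dvd_of_dvd_mul_left ((hao.trans h).trans hcb)
    have h3 : (Fintype.card F - 1) / 2 ∣ Fintype.card F - 1 := Nat.div_dvd_of_dvd (by omega)
    have h4 := Nat.le_of_dvd two_pos
      (show Fintype.card F + 1 - (Fintype.card F - 1) = 2 by omega ▸ Nat.dvd_sub h1 h3)
    rw [Nat.odd_iff] at ho'
    omega

end PSL

section Suzuki

open CfsgLib.Suzuki

theorem three_suzuki {F : Type*} [Field F] {m : ℕ} (h : Hyp F m) : Three (Cfsg.Sz F m) := by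
  have := h.finite_group
  have hm := h.one_le
  obtain ⟨c12, c13, c23, hprod⟩ := h.coprime_three
  have hq8 := q_ge hm
  have hcard := h.card_eq_qq
  set q := 2 ^ (2 * m + 1) with hqdef
  set r := 2 ^ (m + 1)
  have hqe : 2 ∣ q := dvd_pow_self 2 (by omega)
  have hre : 2 ∣ r := dvd_pow_self 2 (by omega)
  have hr0 : 0 < r := pow_pos two_pos _
  obtain ⟨p₂, hp₂, hd₂⟩ := Nat.exists_prime_and_dvd (show q - 1 ≠ 1 by omega)
  obtain ⟨p₃, hp₃, hd₃⟩ := Nat.exists_prime_and_dvd (show q + r + 1 ≠ 1 by omega)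
  have : Fact p₂.Prime := ⟨hp₂⟩
  have : Fact p₃.Prime := ⟨hp₃⟩
  obtain ⟨s₂, hs₂⟩ := exists_prime_orderOf_dvd_card' (G := Cfsg.Sz F m) p₂
    (hcard ▸ (hd₂.mul_left _).mul_left _)
  obtain ⟨s₃, hs₃⟩ := exists_prime_orderOf_dvd_card' (G := Cfsg.Sz F m) p₃
    (hcard ▸ (hprod ▸ hd₃.mul_right _).mul_right _)
  have hp₂2 : p₂ ≠ 2 := fun e => by rw [e] at hd₂; omega
  have hp₃2 : p₃ ≠ 2 := fun e => by rw [e] at hd₃; omega
  have hone : ∀ {s : Cfsg.Sz F m} {p : ℕ}, p.Prime → orderOf s = p → s ≠ 1 := by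
    intro s p hp hs e
    rw [e, orderOf_one] at hs
    exact hp.ne_one hs.symm
  have hcen : ∀ {s : Cfsg.Sz F m} {p : ℕ}, p.Prime → p ≠ 2 → orderOf s = p →
      p ∣ Nat.card (Subgroup.centralizer ({s} : Set (Cfsg.Sz F m))) ∧
        Nat.card (Subgroup.centralizer ({s} : Set (Cfsg.Sz F m))) ∈
          ({q - 1, q + r + 1, q - r + 1} : Set ℕ) := fun {s p} hp hp2 hs =>
    ⟨hs ▸ Subgroup.orderOf_dvd_natCard _ (Subgroup.mem_centralizer_singleton_iff.2 rfl),
      h.centralizer_card_mem (hone hp hs) (hs ▸ hp.odd_of_ne_two hp2)⟩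
  have hc₂ : Nat.card (Subgroup.centralizer ({s₂} : Set (Cfsg.Sz F m))) = q - 1 := by
    obtain ⟨hd, e | e | e⟩ := hcen hp₂ hp₂2 hs₂
    · exact e
    · exact absurd (Nat.eq_one_of_dvd_coprimes c12 hd₂ (e ▸ hd)) hp₂.ne_one
    · exact absurd (Nat.eq_one_of_dvd_coprimes c13 hd₂ (e ▸ hd)) hp₂.ne_one
  obtain ⟨b, hb⟩ : ∃ b : F, b ≠ 0 := exists_ne 0
  set z := h.u 0 b
  have hz : orderOf z = 2 := h.orderOf_z hb
  have hcz : Nat.card (Subgroup.centralizer ({z} : Set (Cfsg.Sz F m))) = q ^ 2 :=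
    h.card_centralizer_involution hz
  have hnot : ∀ p : ℕ, p.Prime → p ≠ 2 → ¬ p ∣ q ^ 2 := fun p hp hp2 hd =>
    hp2 ((Nat.prime_dvd_prime_iff_eq hp Nat.prime_two).1
      (hp.dvd_of_dvd_pow (hqdef ▸ hp.dvd_of_dvd_pow hd)))
  refine ⟨z, s₂, s₃, hone Nat.prime_two hz, hone hp₂ hs₂, hone hp₃ hs₃,
    Or.inr (hs₂ ▸ hcz ▸ hnot p₂ hp₂ hp₂2), Or.inr (hs₃ ▸ hcz ▸ hnot p₃ hp₃ hp₃2), Or.inr ?_⟩
  rw [hs₃, hc₂]
  exact fun hd => hp₃.ne_one (Nat.eq_one_of_dvd_coprimes c12 hd hd₃)

end Suzuki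

end CfsgLib.ClassSizesThreeIto
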