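import Cfsg.Agent.Lib.ClassSizesThreeIto.Unique
import Cfsg.Agent.Lib.ClassSizesThreeIto.Models
import Cfsg.Agent.Lib.NormalPComplement.FixedPointFree
import Cfsg.Agent.Lib.Frobenius.Kernel
import Cfsg.Agent.S4248
import Cfsg.Agent.S4249
import Cfsg.Agent.S0205

/-!
A group with exactly three class sizes is solvable: `G / Z(G)` would be a nonsolvable group with a
nontrivial partition, and none of those fits.
-/

set_option autoImplicit false

namespace CfsgLib.ClassSizesThreeIto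

open Subgroup CfsgLib.ClassSizes3 CfsgLib.ClassSizesFour

variable {G : Type*} [Group G]

theorem mem_of_mk_mem_map {K : Subgroup G} (hK : center G ≤ K) {x : G}
    (h : (x : G ⧸ center G) ∈ K.map (QuotientGroup.mk' (center G))) : x ∈ K := by
  obtain ⟨y, hy, he⟩ := h
  simpa using mul_mem hy (hK (QuotientGroup.eq.mp he))

/-- A covering of the noncentral elements, unique at each of them, gives a partition modulo the
centre. -/
theorem exists_partition (T : Set (Subgroup G)) (hZ : ∀ K ∈ T, center G ≤ K)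
    (hel : ∀ K ∈ T, ∃ x ∈ K, x ∉ center G) (hproper : ∀ K ∈ T, K ≠ ⊤)
    (hcov : ∀ x : G, x ∉ center G → ∃ K ∈ T, x ∈ K)
    (huniq : ∀ x : G, x ∉ center G → ∀ K ∈ T, ∀ K' ∈ T, x ∈ K → x ∈ K' → K = K')
    (hne : ∃ x : G, x ∉ center G) :
    ∃ S : Set (Subgroup (G ⧸ center G)), (∃ H ∈ S, ∃ K ∈ S, H ≠ K) ∧ (∀ H ∈ S, H ≠ ⊥) ∧
      ∀ g : G ⧸ center G, g ≠ 1 → ∃! H : Subgroup (G ⧸ center G), H ∈ S ∧ g ∈ H := by
  set f := QuotientGroup.mk' (center G)
  refine ⟨(fun K : Subgroup G => K.map f) '' T, ?_, ?_, fun g hg => ?_⟩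
  · obtain ⟨x, hx⟩ := hne
    obtain ⟨K, hK, -⟩ := hcov x hx
    obtain ⟨y, hy⟩ : ∃ y, y ∉ K := by
      by_contra hcon
      push Not at hcon
      exact hproper K hK (eq_top_iff.2 fun a _ => hcon a)
    obtain ⟨K', hK', hyK'⟩ := hcov y fun h => hy (hZ K hK h)
    refine ⟨_, ⟨K, hK, rfl⟩, _, ⟨K', hK', rfl⟩, fun he => hy (mem_of_mk_mem_map (hZ K hK) ?_)⟩
    show f y ∈ K.map f
    simp only at he
    rw [he]
    exact mem_map_of_mem f hyK'
  · rintro _ ⟨K, hK, rfl⟩ hb
    obtain ⟨x, hxK, hx⟩ := hel K hK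
    have h1 : f x ∈ K.map f := mem_map_of_mem f hxK
    simp only at hb
    rw [hb, mem_bot] at h1
    exact hx ((QuotientGroup.eq_one_iff x).mp h1)
  obtain ⟨x, rfl⟩ := QuotientGroup.mk_surjective g
  have hx : x ∉ center G := fun h => hg ((QuotientGroup.eq_one_iff x).mpr h)
  obtain ⟨K, hK, hxK⟩ := hcov x hx
  refine ⟨K.map f, ⟨⟨K, hK, rfl⟩, ⟨x, hxK, rfl⟩⟩, ?_⟩
  rintro _ ⟨⟨K', hK', rfl⟩, hxK'⟩
  rw [huniq x hx K hK K' hK' hxK (mem_of_mk_mem_map (hZ K' hK') hxK')]

variable [Finite G] {n₁ n₂ : ℕ}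

omit [Finite G] in
theorem H3.exists_el (h : H3 G n₁ n₂) : ∃ x : G, x ∉ center G := by
  by_contra hcon
  push Not at hcon
  exact h.notSolv (Group.isSolvable_of_comm fun a b => mem_center_iff.mp (hcon b) a)

/-- The conclusion of both cases. -/
def Data (G : Type*) [Group G] : Prop :=
  (∃ S : Set (Subgroup (G ⧸ center G)), (∃ H ∈ S, ∃ K ∈ S, H ≠ K) ∧ (∀ H ∈ S, H ≠ ⊥) ∧
      ∀ g : G ⧸ center G, g ≠ 1 → ∃! H : Subgroup (G ⧸ center G), H ∈ S ∧ g ∈ H) ∧
    ∀ v : G, v ∉ center G → Group.IsSolvable (C v)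

/-- No centralizer of a noncentral element properly inside another. -/
theorem data_of_free (hne : ∃ x : G, x ∉ center G)
    (hF : ∀ a b : G, a ∉ center G → b ∉ center G → ¬ C a < C b) : Data G := by
  have heq : ∀ a b : G, a ∉ center G → b ∉ center G → C a ≤ C b → C a = C b := fun a b ha hb hle =>
    hle.eq_of_not_lt (hF a b ha hb)
  refine ⟨exists_partition {K | ∃ v : G, v ∉ center G ∧ K = centralizer (C v : Set G)} ?_ ?_ ?_ ?_ ?_
    hne, fun v hv => ?_⟩
  · rintro _ ⟨v, hv, rfl⟩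
    exact center_le_centralizer _
  · rintro _ ⟨v, hv, rfl⟩
    exact ⟨v, mem_centralizer_C.mpr le_rfl, hv⟩
  · rintro _ ⟨v, hv, rfl⟩ htop
    refine hv (C_eq_top.mp (eq_top_iff.mpr fun x _ => ?_))
    by_cases hx : x ∈ center G
    · exact center_le_C v hx
    · rw [heq v x hv hx (mem_centralizer_C.mp (htop ▸ mem_top x))]
      exact self_mem_C x
  · exact fun x hx => ⟨_, ⟨x, hx, rfl⟩, mem_centralizer_C.mpr le_rfl⟩
  · rintro x hx _ ⟨v, hv, rfl⟩ _ ⟨v', hv', rfl⟩ h1 h2
    rw [heq v x hv hx (mem_centralizer_C.mp h1), heq v' x hv' hx (mem_centralizer_C.mp h2)]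
  · obtain ⟨p, u, hp, hu, hle, huc⟩ := exists_pel_noncentral hv
    rw [heq v u hv huc hle]
    refine isSolvable_of_central hp hp fun t ht htp _ x hx hxt => ?_
    exact min_central (fun b hb hbu => heq b u hb huc hbu) huc hu hx
      (orderOf_coprime_of_pel hp ht htp hxt)

theorem Setting.data {k p : ℕ} (hs : Setting G n₁ n₂ k p) : Data G := by
  refine ⟨exists_partition {K | ∃ w : G, Big p w ∧ K = C w} ?_ ?_ ?_ ?_ ?_ hs.nest.base.exists_el,
    fun v hv => hs.isSolvable_C hv⟩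
  · rintro _ ⟨w, -, rfl⟩
    exact center_le_C w
  · rintro _ ⟨w, ⟨_, _, _, _, hw⟩, rfl⟩
    exact ⟨w, self_mem_C w, hw⟩
  · rintro _ ⟨w, ⟨_, _, _, _, hw⟩, rfl⟩ htop
    exact hw (C_eq_top.mp htop)
  · intro x hx
    obtain ⟨w, hw, hwb⟩ := hs.exists_big hx
    exact ⟨_, ⟨w, hwb, rfl⟩, C_comm hw⟩
  · rintro x hx _ ⟨w, hw, rfl⟩ _ ⟨w', hw', rfl⟩ h1 h2
    exact hs.unique hx (C_comm h1) (C_comm h2) hw hw'

theorem H3.data (h : H3 G n₁ n₂) : Data G := by
  by_cases hF : ∀ a b : G, a ∉ center G → b ∉ center G → ¬ C a < C b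
  · exact data_of_free h.exists_el hF
  push Not at hF
  obtain ⟨a, b, ha, hb, hlt⟩ := hF
  obtain ⟨k, hk⟩ := h.nested ha hb hlt
  obtain ⟨p, hp, hpk⟩ := hk.exists_prime
  exact Setting.data ⟨hk, hp, hpk⟩

/-- Elements with equal class sizes: orders and centralizers modulo the centre. -/
theorem dvd_of_cl_eq {x y : G} (he : cl x = cl y) :
    orderOf (x : G ⧸ center G) ∣
      Nat.card (centralizer ({(y : G ⧸ center G)} : Set (G ⧸ center G))) := by
  set f := QuotientGroup.mk' (center G)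
  have hidx : ∀ z : G, ((C z).map f).index = cl z := fun z => by
    have := index_comap_of_surjective ((C z).map f) (QuotientGroup.mk'_surjective (center G))
    rw [comap_map_eq_self (by rw [QuotientGroup.ker_mk']; exact center_le_C z)] at this
    exact this.symm
  have hcard : Nat.card ((C x).map f) = Nat.card ((C y).map f) := by
    refine Nat.eq_of_mul_eq_mul_right (cl_pos x) ?_
    nth_rewrite 1 [← hidx x]
    rw [card_mul_index, he, ← hidx y, card_mul_index]
  have hle : (C y).map f ≤ centralizer ({(y : G ⧸ center G)} : Set (G ⧸ center G)) := by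
    rintro _ ⟨g, hg, rfl⟩
    rw [mem_centralizer_singleton_iff]
    exact (map_mul f g y).symm.trans ((congrArg f (mem_C.mp hg)).trans (map_mul f y g))
  refine ((?_ : orderOf (x : G ⧸ center G) ∣ Nat.card ((C x).map f))).trans
    (hcard ▸ card_dvd_of_le hle)
  exact Subgroup.orderOf_dvd_natCard _ ⟨x, self_mem_C x, rfl⟩

theorem H3.not_three (h : H3 G n₁ n₂) : ¬ Three (G ⧸ center G) := by
  rintro ⟨a, b, c, ha, hb, hc, hab, hac, hbc⟩
  obtain ⟨x, rfl⟩ := QuotientGroup.mk_surjective a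
  obtain ⟨y, rfl⟩ := QuotientGroup.mk_surjective b
  obtain ⟨z, rfl⟩ := QuotientGroup.mk_surjective c
  have el : ∀ {w : G}, (w : G ⧸ center G) ≠ 1 → w ∉ center G := fun hw hm =>
    hw ((QuotientGroup.eq_one_iff _).mpr hm)
  have key : ∀ {w w' : G}, Apart (w : G ⧸ center G) (w' : G ⧸ center G) → cl w ≠ cl w' :=
    fun hap he => hap.elim (fun k => k (dvd_of_cl_eq he)) fun k => k (dvd_of_cl_eq he.symm)
  have := key hab
  have := key hac
  have := key hbc
  have := h.cases (el ha)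
  have := h.cases (el hb)
  have := h.cases (el hc)
  omega

omit [Finite G] in
/-- An element with prescribed image in `G / Z(G)`, of `t`-power order up to a prime-to-`t`
power. -/
theorem exists_pel_lift [Finite G] {t : ℕ} (ht : t.Prime) (w : G ⧸ center G) :
    ∃ (x : G) (b : ℕ), PEl t x ∧ ¬ t ∣ b ∧ (x : G ⧸ center G) = w ^ b := by
  obtain ⟨y, rfl⟩ := QuotientGroup.mk_surjective w
  obtain ⟨a, b, hb, hab⟩ :=
    Nat.exists_eq_pow_mul_and_not_dvd (isOfFinOrder_of_finite y).orderOf_pos.ne' t ht.ne_one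
  exact ⟨y ^ b, b, ⟨a, by rw [← pow_mul, mul_comm, ← hab, pow_orderOf_eq_one]⟩, hb,
    QuotientGroup.mk_pow _ _ _⟩

theorem invert_kernel {Q : Type*} [Group Q] [Finite Q] {H N : Subgroup Q} [N.Normal]
    (hfpf : ∀ h ∈ H, h ≠ 1 → ∀ n ∈ N, h * n = n * h → n = 1) {i : Q} (hi : i ∈ H) (hi1 : i ≠ 1)
    (hi2 : i * i = 1) : ∀ n ∈ N, i * n * i⁻¹ = n⁻¹ := by
  intro n hn
  let ψ : N → N := fun a => ⟨(a : Q)⁻¹ * (i * a * i⁻¹),
    mul_mem (inv_mem a.2) ((inferInstance : N.Normal).conj_mem _ a.2 i)⟩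
  have hinj : Function.Injective ψ := fun a b hab => by
    have h1 : (a : Q)⁻¹ * (i * a * i⁻¹) = (b : Q)⁻¹ * (i * b * i⁻¹) := congrArg Subtype.val hab
    have h2 : i * ((b : Q) * (a : Q)⁻¹) = ((b : Q) * (a : Q)⁻¹) * i := by
      calc i * ((b : Q) * (a : Q)⁻¹) = b * ((b : Q)⁻¹ * (i * b * i⁻¹)) * i * (a : Q)⁻¹ := by group
        _ = b * ((a : Q)⁻¹ * (i * a * i⁻¹)) * i * (a : Q)⁻¹ := by rw [h1]
        _ = (b : Q) * (a : Q)⁻¹ * i := by group
    exact Subtype.ext (mul_inv_eq_one.1 (hfpf i hi hi1 _ (mul_mem b.2 (inv_mem a.2)) h2)).symm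
  obtain ⟨a, ha⟩ := (Finite.injective_iff_surjective.1 hinj) ⟨n, hn⟩
  have ha' : n = (a : Q)⁻¹ * (i * a * i⁻¹) := (congrArg Subtype.val ha).symm
  have hinv : i⁻¹ = i := inv_eq_of_mul_eq_one_right hi2
  rw [ha', hinv]
  calc i * ((a : Q)⁻¹ * (i * a * i)) * i = i * (a : Q)⁻¹ * i * a * (i * i) := by group
    _ = ((a : Q)⁻¹ * (i * a * i))⁻¹ := by
      rw [hi2, mul_one, mul_inv_rev, mul_inv_rev, mul_inv_rev, inv_inv, hinv]
      group

/-- `G / Z(G)` is no nonsolvable Frobenius group. -/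
theorem not_frobenius (hsol : ∀ v : G, v ∉ center G → Group.IsSolvable (C v))
    (hns : ¬ Group.IsSolvable (G ⧸ center G)) (H : Subgroup (G ⧸ center G))
    (hH : Cfsg.IsFrobeniusComplement H) : False := by
  obtain ⟨N, hN, hNn, hc⟩ := CfsgLib.Frobenius.exists_kernel hH
  have : N.Normal := hNn
  have hNnil : Group.IsNilpotent N :=
    CfsgLib.NormalPComplement.isNilpotent_frobeniusKernel hH N hN
  have hHns : ¬ Group.IsSolvable H := fun hHs => hns (by
    have : Group.IsSolvable ((G ⧸ center G) ⧸ N) :=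
      Group.isSolvable_of_surjective (f := (QuotientGroup.mk' N).comp H.subtype) fun q => by
        obtain ⟨x, rfl⟩ := QuotientGroup.mk_surjective q
        obtain ⟨a, ha, b, hb, rfl⟩ :=
          mem_sup_of_normal_left.mp (show x ∈ N ⊔ H from hc.sup_eq_top ▸ mem_top x)
        refine ⟨⟨b, hb⟩, ?_⟩
        show ((b : G ⧸ center G) : (G ⧸ center G) ⧸ N) = _
        rw [QuotientGroup.mk_mul, (QuotientGroup.eq_one_iff a).mpr ha, one_mul]
    exact Group.isSolvable_of_ker_le_range N.subtype (QuotientGroup.mk' N)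
      (by rw [QuotientGroup.ker_mk', range_subtype]))
  have hfpf : ∀ x ∈ H, x ≠ 1 → ∀ n ∈ N, x * n = n * x → n = 1 := fun x hx hx1 n hn he => by
    have h1 : n ∈ H := CfsgLib.Frobenius.centralizer_le hH hx hx1
      (mem_centralizer_singleton_iff.mpr he.symm)
    have h2 : n ∈ N ⊓ H := ⟨hn, h1⟩
    rwa [disjoint_iff.1 hc.disjoint, mem_bot] at h2
  obtain ⟨n, hn, hn1⟩ := (bot_or_exists_ne_one N).resolve_left fun e =>
    hH.2.1 (by have := hc.sup_eq_top; rwa [e, bot_sup_eq] at this)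
  have heven : 2 ∣ Nat.card H := by
    by_contra hodd
    exact hHns (Cfsg.Agent.S0205.result (Nat.odd_iff.2 (Nat.two_dvd_ne_zero.1 hodd)))
  have : Fact (Nat.Prime 2) := ⟨Nat.prime_two⟩
  obtain ⟨⟨j, hjH⟩, hj⟩ := exists_prime_orderOf_dvd_card' (G := H) 2 heven
  rw [Subgroup.orderOf_mk] at hj
  have hj1 : j ≠ 1 := fun e => by rw [e, orderOf_one] at hj; omega
  have hj2 : j * j = 1 := by rw [← pow_two, ← hj, pow_orderOf_eq_one]
  have hjc : ∀ x ∈ H, x * j * x⁻¹ = j := by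
    intro x hx
    set j' := x * j * x⁻¹ with hj'
    have hj'H : j' ∈ H := mul_mem (mul_mem hx hjH) (inv_mem hx)
    have hj'1 : j' ≠ 1 := fun e => hj1 (conj_eq_one_iff.1 e)
    have hj'2 : j' * j' = 1 := by
      rw [hj', show x * j * x⁻¹ * (x * j * x⁻¹) = x * (j * j) * x⁻¹ by group, hj2, mul_one,
        mul_inv_cancel]
    by_contra hne
    have hjj : j * j' ≠ 1 := fun e => hne (by
      rw [← inv_eq_of_mul_eq_one_right e, inv_eq_of_mul_eq_one_right hj2])
    refine hn1 (hfpf (j * j') (mul_mem hjH hj'H) hjj n hn ?_)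
    have h1 := invert_kernel hfpf hjH hj1 hj2 n⁻¹ (inv_mem hn)
    have h2 := invert_kernel hfpf hj'H hj'1 hj'2 n hn
    rw [inv_inv, mul_inv_eq_iff_eq_mul] at h1
    rw [mul_inv_eq_iff_eq_mul] at h2
    rw [mul_assoc, h2, ← mul_assoc, h1, mul_assoc]
  obtain ⟨t, b, htp, hb, htj⟩ := exists_pel_lift Nat.prime_two j
  rw [← pow_mod_orderOf, hj, Nat.two_dvd_ne_zero.1 hb, pow_one] at htj
  have htc : t ∉ center G := fun hm => hj1 (htj ▸ (QuotientGroup.eq_one_iff t).mpr hm)
  set M := (C t).map (QuotientGroup.mk' (center G)) with hM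
  have hMsol : Group.IsSolvable M := by
    have := hsol t htc
    exact Group.isSolvable_of_surjective
      (f := (QuotientGroup.mk' (center G)).subgroupMap (C t))
      (MonoidHom.subgroupMap_surjective _ _)
  have hodd : ∀ g : H, Odd (orderOf g) → (g : G ⧸ center G) ∈ M := by
    intro g hg
    by_contra hgM
    obtain ⟨s, w, hs, hws, hwz, hwM⟩ := exists_pel_notMem M hgM
    have hwH : w ∈ H := (zpowers_le.mpr g.2) hwz
    have hw1 : w ≠ 1 := fun e => hwM (e ▸ one_mem _)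
    have hs2 : s ≠ 2 := pel_of_coprime_dvd hws hw1 (Nat.Coprime.coprime_dvd_left
      (orderOf_dvd_of_mem_zpowers hwz) (by rw [Subgroup.orderOf_coe]; exact Nat.coprime_two_right.2 hg))
    obtain ⟨y, c, hy, hc', hyw⟩ := exists_pel_lift hs w
    have hz : y⁻¹ * (t * y * t⁻¹) ∈ center G := by
      rw [← QuotientGroup.eq, QuotientGroup.mk_mul, QuotientGroup.mk_mul, QuotientGroup.mk_inv,
        htj, hyw]
      have h1 := hjc (w ^ c) (pow_mem hwH c)
      rw [mul_inv_eq_iff_eq_mul] at h1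
      rw [← h1, mul_inv_cancel_right]
    have hyt : y ∈ C t := C_comm (commute_of_central_shift Nat.prime_two hs hs2.symm htp hy hz
      (mul_inv_cancel_left y _).symm)
    have hwc : w ^ c ∈ M := hyw ▸ mem_map_of_mem _ hyt
    obtain ⟨e, he⟩ := hws
    have hco : c.Coprime (orderOf w) :=
      (((hs.coprime_iff_not_dvd).mpr hc').symm.pow_right e).coprime_dvd_right
        (orderOf_dvd_of_pow_eq_one he)
    obtain ⟨l, hl⟩ := exists_pow_eq_self_of_coprime hco
    exact hwM (hl ▸ pow_mem hwc l)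
  set O := normalClosure {g : H | Odd (orderOf g)} with hO
  have hOM : O ≤ M.subgroupOf H := by
    refine (closure_le _).2 fun g hg => ?_
    obtain ⟨a, ha, hc'⟩ := Group.mem_conjugatesOfSet_iff.1 hg
    obtain ⟨x, rfl⟩ := isConj_iff.1 hc'
    refine SetLike.mem_coe.2 (mem_subgroupOf.2 (hodd _ ?_))
    rw [show x * a * x⁻¹ = MulAut.conj x a from rfl, MulEquiv.orderOf_eq]
    exact ha
  have hOsol : Group.IsSolvable O := by
    have : Group.IsSolvable (M.subgroupOf H) :=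
      Group.isSolvable_of_isSolvable_injective
        (f := (H.subtype.comp (M.subgroupOf H).subtype).codRestrict M fun x => x.2)
        fun a b hab => Subtype.ext (Subtype.ext (congrArg Subtype.val hab :))
    exact Group.isSolvable_of_isSolvable_injective (f := inclusion hOM) (inclusion_injective hOM)
  have hq : IsPGroup 2 (H ⧸ O) := by
    intro q
    obtain ⟨g, rfl⟩ := QuotientGroup.mk_surjective q
    obtain ⟨a, c, hc', hac⟩ := Nat.exists_eq_pow_mul_and_not_dvd
      (isOfFinOrder_of_finite g).orderOf_pos.ne' 2 (by norm_num)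
    refine ⟨a, ?_⟩
    rw [← QuotientGroup.mk_pow, QuotientGroup.eq_one_iff]
    refine subset_normalClosure (?_ : Odd (orderOf (g ^ 2 ^ a)))
    rw [orderOf_pow' g (pow_ne_zero _ two_ne_zero), hac, Nat.gcd_mul_right_left,
      Nat.mul_div_cancel_left _ (pow_pos two_pos a)]
    exact Nat.odd_iff.2 (Nat.two_dvd_ne_zero.1 hc')
  have := hq.isNilpotent
  exact hHns (Group.isSolvable_of_ker_le_range O.subtype (QuotientGroup.mk' O)
    (by rw [QuotientGroup.ker_mk', range_subtype]))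

omit [Finite G] in
/-- A group with a proper Hughes subgroup is solvable. -/
theorem isSolvable_of_hughes {Q : Type*} [Group Q] [Finite Q] {p : ℕ} (hp : p.Prime)
    (hne : closure {g : Q | g ^ p ≠ 1} ≠ ⊤) : Group.IsSolvable Q := by
  have : Fact p.Prime := ⟨hp⟩
  by_cases hQ : IsPGroup p Q
  · have := hQ.isNilpotent
    infer_instance
  obtain ⟨hnil, hidx⟩ := Cfsg.Agent.S4249.result p hp hQ hne
  set K := closure {g : Q | g ^ p ≠ 1}
  have hK : K = normalClosure {g : Q | g ^ p ≠ 1} := by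
    refine le_antisymm closure_le_normalClosure ((closure_le _).2 fun g hg => subset_closure ?_)
    obtain ⟨a, ha, hc⟩ := Group.mem_conjugatesOfSet_iff.1 hg
    obtain ⟨x, rfl⟩ := isConj_iff.1 hc
    show (x * a * x⁻¹) ^ p ≠ 1
    rw [conj_pow]
    exact fun e => ha (conj_eq_one_iff.1 e)
  have : K.Normal := hK ▸ normalClosure_normal
  have hq : IsPGroup p (Q ⧸ K) := IsPGroup.of_card (n := 1) (by rw [← index_eq_card, hidx, pow_one])
  have := hq.isNilpotent
  exact Group.isSolvable_of_ker_le_range K.subtype (QuotientGroup.mk' K)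
    (by rw [QuotientGroup.ker_mk', range_subtype])

theorem H3.false (h : H3 G n₁ n₂) : False := by
  have hns : ¬ Group.IsSolvable (G ⧸ center G) := fun hq => h.notSolv (by
    have : Group.IsSolvable (center G) :=
      Group.isSolvable_of_comm fun a b => Subtype.ext (mem_center_iff.mp b.2 a)
    exact Group.isSolvable_of_ker_le_range (center G).subtype (QuotientGroup.mk' (center G))
      (by rw [QuotientGroup.ker_mk', range_subtype]))
  obtain ⟨⟨S, hS2, hS1, hpart⟩, hsol⟩ := h.data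
  rcases Cfsg.Agent.S4248.result S hS2 hS1 hpart with
    ⟨⟨e⟩⟩ | ⟨p, hp, hne⟩ | ⟨H, hH⟩ | ⟨F, _, _, h4, ⟨e⟩⟩ | ⟨F, _, _, h5, hodd, ⟨e⟩⟩ | hSz
  · refine hns (CfsgLib.CharTheory.isSolvable_of_card_dvd_pow_mul_pow 2 3 3 1 Nat.prime_two
      Nat.prime_three ?_)
    rw [Nat.card_congr e.toEquiv, Nat.card_perm, Nat.card_fin]
    decide
  · exact hns (isSolvable_of_hughes hp hne)
  · exact not_frobenius hsol hns H hH
  · exact h.not_three ((three_psl h4).map e.symm)
  · exact h.not_three ((three_pgl h5 hodd).map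
      (e.symm : Matrix.ProjGenLinGroup (Fin 2) F ≃* (G ⧸ center G)))
  · obtain ⟨F, _, m, hyp, ⟨e⟩⟩ := CfsgLib.Suzuki.isoSuzuki_spec hSz
    exact h.not_three ((three_suzuki hyp).map e.symm)

end CfsgLib.ClassSizesThreeIto
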