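import Cfsg.Agent.Lib.ClassSizesThreeIto.Final
import Cfsg.Agent.Lib.ClassSizesThreeIto.Factor
import Cfsg.Agent.Lib.ClassicalLinear.BlockHom
import Cfsg.Agent.Lib.ClassicalLinear.Simple
import Cfsg.Agent.S0494

/-!
A centerless group with at most three class sizes other than `1` is solvable or `PSL₂(2^a)`.
-/

set_option autoImplicit false
set_option linter.unusedSectionVars false

namespace CfsgLib.ClassSizesThreeIto

open scoped MatrixGroups

/-- Two nontrivial elements, the centralizer order of one a proper divisor of the other's. -/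
def Nested (X : Type*) [Group X] : Prop :=
  ∃ a b : X, a ≠ 1 ∧ b ≠ 1 ∧
    Nat.card (Subgroup.centralizer ({a} : Set X)) ∣ Nat.card (Subgroup.centralizer ({b} : Set X)) ∧
    Nat.card (Subgroup.centralizer ({a} : Set X)) ≠ Nat.card (Subgroup.centralizer ({b} : Set X))

theorem Nested.map {X Y : Type*} [Group X] [Group Y] (e : X ≃* Y) (h : Nested X) : Nested Y := by
  obtain ⟨a, b, ha, hb, h1, h2⟩ := h
  refine ⟨e a, e b, by simpa using ha, by simpa using hb, ?_, ?_⟩ <;>
    rw [card_centralizer_equiv, card_centralizer_equiv]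
  exacts [h1, h2]

/-- Four nontrivial elements with different centralizer orders. -/
def Four (X : Type*) [Group X] : Prop :=
  ∃ f : Fin 4 → X, (∀ i, f i ≠ 1) ∧
    Function.Injective fun i => Nat.card (Subgroup.centralizer ({f i} : Set X))

theorem Four.map {X Y : Type*} [Group X] [Group Y] (e : X ≃* Y) (h : Four X) : Four Y := by
  obtain ⟨f, hf, hinj⟩ := h
  refine ⟨fun i => e (f i), fun i => by simpa using hf i, fun i j hij => hinj ?_⟩
  simpa only [card_centralizer_equiv] using hij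

section PSL

open CfsgLib.CharDegrees CfsgLib.SL2

variable {F : Type*} [Field F] [Fintype F]

/-- For odd `q ≥ 7`: a torus element and an involution of `PSL₂(q)`. -/
theorem nested_psl (h7 : 7 ≤ Fintype.card F) (hodd : Odd (Fintype.card F)) :
    Nested (Matrix.ProjectiveSpecialLinearGroup (Fin 2) F) := by
  have hq : Nat.card F = Fintype.card F := Nat.card_eq_fintype_card
  have hd : ¬ 2 ∣ Fintype.card F := fun h => Nat.not_even_iff_odd.2 hodd (even_iff_two_dvd.2 h)
  have h2 : (2 : F) ≠ 0 := fun h => hd (char_two_facts h).2.2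
  set j : SL(2, F) := ⟨!![0, 1; -1, 0], by simp [Matrix.det_fin_two]⟩
  have hj0 : tr j = 0 := by simp [j, tr]
  have hj4 : tr j ^ 2 ≠ 4 := fun h => mul_self_ne_zero.2 h2 (by
    rw [hj0] at h
    linear_combination -h)
  set e := Nat.card (Subgroup.centralizer ({j} : Set (SL(2, F)))) with hedef
  have hjc : Nat.card (Subgroup.centralizer ({proj₂ j} :
      Set (Matrix.ProjectiveSpecialLinearGroup (Fin 2) F))) = e := by
    have he := card_centralizer_proj₂ j
    rw [(odd_facts h2).1,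
      Nat.card_congr (Equiv.subtypeEquivRight (conj_eq_or_neg_iff_normalizer h2 hj0)),
      show Nat.card {h // h ∈ Subgroup.normalizer ((Subgroup.centralizer ({j} : Set (SL(2, F))) :
        Subgroup (SL(2, F))) : Set (SL(2, F)))} = _ from card_normalizer hj4, mul_comm] at he
    exact Nat.eq_of_mul_eq_mul_left two_pos he
  obtain ⟨g, ht, -, hc, ho⟩ := exists_orderOf_proj₂ (F := F) (by omega) (card_centralizer_or hj4)
  rw [← hedef] at hc ho
  rw [(odd_facts h2).2.1] at ho
  have hbig : 3 ≤ e / 2 := by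
    rcases card_centralizer_or hj4 with h | h <;> rw [← hedef] at h <;> omega
  have hord : 3 ≤ orderOf (proj₂ g) :=
    hbig.trans (Nat.le_of_dvd (isOfFinOrder_of_finite _).orderOf_pos ho)
  have hg0 : tr g ≠ 0 := by
    intro h0
    have hinv : g⁻¹ = -g := Subtype.ext (by simp only [coe_inv_eq, h0, zero_smul, zero_sub]; rfl)
    have h1 : proj₂ g ^ 2 = 1 := by
      have h' := proj₂_neg g
      rw [← hinv, map_inv] at h'
      rw [pow_two]
      nth_rw 1 [← h']
      exact inv_mul_cancel _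
    have := Nat.le_of_dvd two_pos (orderOf_dvd_of_pow_eq_one h1)
    omega
  have hgc : Nat.card (Subgroup.centralizer ({proj₂ g} :
      Set (Matrix.ProjectiveSpecialLinearGroup (Fin 2) F))) * 2 = e := by
    have he := card_centralizer_proj₂ g
    rw [(odd_facts h2).1,
      Nat.card_congr (Equiv.subtypeEquivRight (conj_eq_or_neg_iff (Or.inl ⟨hg0, h2⟩)))] at he
    exact he.trans hc
  refine ⟨proj₂ g, proj₂ j, fun h => ?_, fun h => ?_, ?_, ?_⟩
  · rw [h, orderOf_one] at hord
    omega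
  · rcases (proj₂_eq_one_iff j).1 h with e' | e' <;>
      have := congrArg (fun M : SL(2, F) => (M : Matrix (Fin 2) (Fin 2) F) 0 1) e' <;>
      simp [j] at this
  · exact ⟨2, by rw [hjc, hgc]⟩
  · omega

/-- The invertible matrix with the given entries. -/
noncomputable def glOf (M : Matrix (Fin 2) (Fin 2) F) (h : M.det ≠ 0) : GL (Fin 2) F :=
  Matrix.GeneralLinearGroup.mkOfDetNeZero M h

/-- For odd `q ≥ 5`: a diagonal element and its involution in `PGL₂(q)`. -/
theorem nested_pgl (h5 : 5 ≤ Fintype.card F) (hodd : Odd (Fintype.card F)) :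
    Nested (Matrix.ProjGenLinGroup (Fin 2) F) := by
  have hd : ¬ 2 ∣ Fintype.card F := fun h => Nat.not_even_iff_odd.2 hodd (even_iff_two_dvd.2 h)
  have h2 : (2 : F) ≠ 0 := fun h => hd (char_two_facts h).2.2
  obtain ⟨z, hz⟩ := IsCyclic.exists_ofOrder_eq_natCard (α := Fˣ)
  rw [Nat.card_units, Nat.card_eq_fintype_card] at hz
  set k := (Fintype.card F - 1) / 2 with hkdef
  have hk : ((z : F)) ^ k = -1 := by
    have h1 : (z ^ k) ^ 2 = 1 := by
      rw [← pow_mul, ← orderOf_dvd_iff_pow_eq_one, hz]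
      exact (Nat.div_mul_cancel (by omega)).symm.dvd
    have h3 : z ^ k ≠ 1 := pow_ne_one_of_lt_orderOf (by omega) (by omega)
    have h4 : ((z ^ k : Fˣ) : F) * ((z ^ k : Fˣ) : F) = 1 := by
      rw [← Units.val_mul, ← pow_two, h1, Units.val_one]
    rcases mul_self_eq_one_iff.1 h4 with h | h
    · exact absurd (Units.ext h) h3
    · rw [← Units.val_pow_eq_pow_val, h]
  have hzz : (z : F) * (z : F) ≠ 1 := fun h => by
    have h1 : z ^ 2 = 1 := Units.ext (by rw [Units.val_pow_eq_pow_val, pow_two, h, Units.val_one])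
    have := Nat.le_of_dvd two_pos (orderOf_dvd_of_pow_eq_one h1)
    omega
  set A : GL (Fin 2) F := glOf !![(z : F), 0; 0, 1] (by simp [Matrix.det_fin_two]) with hA
  set B : GL (Fin 2) F := glOf !![(-1 : F), 0; 0, 1] (by simp [Matrix.det_fin_two]) with hB
  set W : GL (Fin 2) F := glOf !![(0 : F), 1; 1, 0] (by simp [Matrix.det_fin_two]) with hW
  have hpow : ∀ i : ℕ, (!![(z : F), 0; 0, 1] : Matrix (Fin 2) (Fin 2) F) ^ i =
      !![(z : F) ^ i, 0; 0, 1] := by
    intro i
    induction i with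
    | zero => simp [Matrix.one_fin_two]
    | succ i ih => rw [pow_succ, ih]; simp [pow_succ]
  have hAB : A ^ k = B := Units.ext (by
    rw [Units.val_pow_eq_pow_val]
    show (!![(z : F), 0; 0, 1] : Matrix (Fin 2) (Fin 2) F) ^ k = !![(-1 : F), 0; 0, 1]
    rw [hpow, hk])
  set π := Matrix.ProjGenLinGroup.mk (n := Fin 2) (R := F) with hπ
  have hb1 : π B ≠ 1 := fun h => by
    rw [← map_one π, hπ, Matrix.ProjGenLinGroup.mk_eq_mk_iff] at h
    obtain ⟨u, hu⟩ := h
    have e0 := congrArg (fun M : GL (Fin 2) F => (M : Matrix (Fin 2) (Fin 2) F) 0 0) hu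
    have e1 := congrArg (fun M : GL (Fin 2) F => (M : Matrix (Fin 2) (Fin 2) F) 1 1) hu
    simp [hB, glOf, Matrix.GeneralLinearGroup.scalar, Matrix.mul_apply] at e0 e1
    subst e1
    simp at e0
    exact h2 (by linear_combination -e0)
  have hab : π A ^ k = π B := by rw [← map_pow, hAB]
  have hle : Subgroup.centralizer ({π A} : Set (Matrix.ProjGenLinGroup (Fin 2) F)) ≤
      Subgroup.centralizer ({π B} : Set _) := fun g hg => by
    rw [Subgroup.mem_centralizer_singleton_iff] at hg ⊢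
    rw [← hab]
    exact ((show Commute g (π A) from hg).pow_right k).eq
  refine ⟨π A, π B, fun h => hb1 (by rw [← hab, h, one_pow]), hb1, Subgroup.card_dvd_of_le hle,
    fun he => ?_⟩
  have heq := Subgroup.eq_of_le_of_card_ge hle he.ge
  have hw : π W ∈ Subgroup.centralizer ({π B} : Set (Matrix.ProjGenLinGroup (Fin 2) F)) := by
    rw [Subgroup.mem_centralizer_singleton_iff, ← map_mul, ← map_mul, hπ,
      Matrix.ProjGenLinGroup.mk_eq_mk_iff]
    refine ⟨-1, Units.ext ?_⟩
    ext i j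
    fin_cases i <;> fin_cases j <;>
      simp [hB, hW, glOf, Matrix.GeneralLinearGroup.scalar, Matrix.mul_apply]
  rw [← heq, Subgroup.mem_centralizer_singleton_iff, ← map_mul, ← map_mul, hπ,
    Matrix.ProjGenLinGroup.mk_eq_mk_iff] at hw
  obtain ⟨u, hu⟩ := hw
  have e0 := congrArg (fun M : GL (Fin 2) F => (M : Matrix (Fin 2) (Fin 2) F) 0 1) hu
  have e1 := congrArg (fun M : GL (Fin 2) F => (M : Matrix (Fin 2) (Fin 2) F) 1 0) hu
  simp [hA, hW, glOf, Matrix.GeneralLinearGroup.scalar, Matrix.mul_apply] at e0 e1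
  refine hzz ?_
  rw [← e1, e0]

theorem iso_psl_five (h5 : Fintype.card F = 5) :
    Nonempty (Matrix.ProjectiveSpecialLinearGroup (Fin 2) F ≃*
      Matrix.ProjectiveSpecialLinearGroup (Fin 2) (GaloisField 2 2)) := by
  have hF : Nat.card F = 5 := by rw [Nat.card_eq_fintype_card, h5]
  have hE : Nat.card (GaloisField 2 2) = 4 := by rw [GaloisField.card 2 2 two_ne_zero]; norm_num
  have : Fintype (GaloisField 2 2) := Fintype.ofFinite _
  have := CfsgLib.ClassicalLinear.isSimpleGroup_psl_fin (F := F) (le_refl 2)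
    (fun _ => by rw [hF]; norm_num)
  have := CfsgLib.ClassicalLinear.isSimpleGroup_psl_fin (F := GaloisField 2 2) (le_refl 2)
    (fun _ => by rw [hE])
  obtain ⟨e₁⟩ := Cfsg.Agent.S0494.result (G := Matrix.ProjectiveSpecialLinearGroup (Fin 2) F)
    (by rw [CfsgLib.SL2.card_PSL, hF]; decide)
  obtain ⟨e₂⟩ := Cfsg.Agent.S0494.result
    (G := Matrix.ProjectiveSpecialLinearGroup (Fin 2) (GaloisField 2 2))
    (by rw [CfsgLib.SL2.card_PSL, hE]; decide)
  exact ⟨e₁.trans e₂.symm⟩

end PSL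

section Suzuki

open CfsgLib.Suzuki

theorem four_suzuki {F : Type*} [Field F] {m : ℕ} (h : Hyp F m) : Four (Cfsg.Sz F m) := by
  have := h.finite_group
  have hm := h.one_le
  obtain ⟨c12, c13, c23, hprod⟩ := h.coprime_three
  have hq8 := q_ge hm
  have hcard := h.card_eq_qq
  have hrq : 2 ^ (m + 1) * 2 ≤ 2 ^ (2 * m + 1) := by
    rw [← pow_succ]
    exact Nat.pow_le_pow_right two_pos (by omega)
  have hr4 : 4 ≤ 2 ^ (m + 1) := (show (2 : ℕ) ^ 2 = 4 from rfl) ▸
    Nat.pow_le_pow_right two_pos (by omega)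
  set q := 2 ^ (2 * m + 1) with hqdef
  set r := 2 ^ (m + 1)
  have hqe : 2 ∣ q := dvd_pow_self 2 (by omega)
  have hre : 2 ∣ r := dvd_pow_self 2 (by omega)
  obtain ⟨b, hb⟩ : ∃ b : F, b ≠ 0 := exists_ne 0
  set z := h.u 0 b
  have hz : orderOf z = 2 := h.orderOf_z hb
  have hcz : Nat.card (Subgroup.centralizer ({z} : Set (Cfsg.Sz F m))) = q ^ 2 :=
    h.card_centralizer_involution hz
  have key : ∀ d : ℕ, d ≠ 1 → ¬ 2 ∣ d → d ∣ Nat.card (Cfsg.Sz F m) →
      ∃ (p : ℕ) (s : Cfsg.Sz F m), p.Prime ∧ p ∣ d ∧ s ≠ 1 ∧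
        p ∣ Nat.card (Subgroup.centralizer ({s} : Set (Cfsg.Sz F m))) ∧
        Nat.card (Subgroup.centralizer ({s} : Set (Cfsg.Sz F m))) ∈
          ({q - 1, q + r + 1, q - r + 1} : Set ℕ) := by
    intro d hd1 hd2 hdc
    obtain ⟨p, hp, hpd⟩ := Nat.exists_prime_and_dvd hd1
    have : Fact p.Prime := ⟨hp⟩
    obtain ⟨s, hs⟩ := exists_prime_orderOf_dvd_card' (G := Cfsg.Sz F m) p (hpd.trans hdc)
    have hs1 : s ≠ 1 := fun e => hp.ne_one (by rw [← hs, e, orderOf_one])
    exact ⟨p, s, hp, hpd, hs1,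
      hs ▸ Subgroup.orderOf_dvd_natCard _ (Subgroup.mem_centralizer_singleton_iff.2 rfl),
      h.centralizer_card_mem hs1 (hs ▸ hp.odd_of_ne_two fun e => hd2 (e ▸ hpd))⟩
  obtain ⟨p₂, s₂, hp₂, hd₂, h₂, hc₂, hv₂⟩ := key (q - 1) (by omega) (by omega)
    (hcard ▸ ((dvd_refl _).mul_left _).mul_left _)
  obtain ⟨p₃, s₃, hp₃, hd₃, h₃, hc₃, hv₃⟩ := key (q + r + 1) (by omega) (by omega)
    (hcard ▸ (hprod ▸ (dvd_mul_right _ _).mul_right _))
  obtain ⟨p₄, s₄, hp₄, hd₄, h₄, hc₄, hv₄⟩ := key (q - r + 1) (by omega) (by omega)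
    (hcard ▸ (hprod ▸ (dvd_mul_left _ _).mul_right _))
  have hno : ∀ {p a b : ℕ}, p.Prime → a.Coprime b → p ∣ a → p ∣ b → False := fun hp hab ha hb =>
    hp.ne_one (Nat.eq_one_of_dvd_coprimes hab ha hb)
  have e₂ : Nat.card (Subgroup.centralizer ({s₂} : Set (Cfsg.Sz F m))) = q - 1 := by
    rcases hv₂ with e | e | e
    · exact e
    · exact (hno hp₂ c12 hd₂ (e ▸ hc₂)).elim
    · exact (hno hp₂ c13 hd₂ (e ▸ hc₂)).elim
  have e₃ : Nat.card (Subgroup.centralizer ({s₃} : Set (Cfsg.Sz F m))) = q + r + 1 := by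
    rcases hv₃ with e | e | e
    · exact (hno hp₃ c12 (e ▸ hc₃) hd₃).elim
    · exact e
    · exact (hno hp₃ c23 hd₃ (e ▸ hc₃)).elim
  have e₄ : Nat.card (Subgroup.centralizer ({s₄} : Set (Cfsg.Sz F m))) = q - r + 1 := by
    rcases hv₄ with e | e | e
    · exact (hno hp₄ c13 (e ▸ hc₄) hd₄).elim
    · exact (hno hp₄ c23 (e ▸ hc₄) hd₄).elim
    · exact e
  have hsq : 2 ∣ q ^ 2 := dvd_pow hqe two_ne_zero
  refine ⟨![z, s₂, s₃, s₄], fun i => ?_, fun i j hij => ?_⟩
  · fin_cases i
    · exact fun e => by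
        have e' : z = 1 := e
        rw [e', orderOf_one] at hz
        omega
    exacts [h₂, h₃, h₄]
  · fin_cases i <;> fin_cases j <;>
      simp only [Fin.isValue, Fin.zero_eta, Fin.mk_one, Fin.reduceFinMk, Matrix.cons_val_zero,
        Matrix.cons_val_one, Matrix.cons_val] at hij ⊢ <;>
      rw [hcz, e₂] at * <;> omega

end Suzuki

open Subgroup CfsgLib.ClassSizes3 CfsgLib.ClassSizesFour

variable {G : Type*} [Group G] [Finite G]

/-- No prime divides all class sizes of noncentral elements. -/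
theorem not_dvd_all (hZ : center G = ⊥) {r : ℕ} (hr : r.Prime) {x : G} (hd : r ∣ cl x) :
    ∃ u : G, u ∉ center G ∧ ¬ r ∣ cl u := by
  have : Fact r.Prime := ⟨hr⟩
  obtain ⟨R, hR⟩ := exists_sylowIn (p := r) (⊤ : Subgroup G)
  have : Nontrivial R := by
    rw [Subgroup.nontrivial_iff_ne_bot, ← Subgroup.one_lt_card_iff_ne_bot, hR.card, card_top]
    exact Nat.one_lt_pow (hr.factorization_pos_of_dvd Nat.card_pos.ne'
      (hd.trans (index_dvd_card _))).ne' hr.one_lt
  have := hR.isPGroup.center_nontrivial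
  obtain ⟨⟨⟨u, huR⟩, huz⟩, hu1⟩ := exists_ne (1 : center R)
  refine ⟨u, ?_, not_dvd_cl_of_le hR (mem_center_subtype.mp huz)⟩
  rw [hZ, mem_bot]
  exact fun e => hu1 (Subtype.ext (Subtype.ext e))

/-- Three class sizes, the first dividing the second. -/
theorem false_of_dvd (hns : ¬ Group.IsSolvable G) (hZ : center G = ⊥) {a b c : ℕ}
    (hv : ∀ x : G, cl x = 1 ∨ cl x = a ∨ cl x = c ∨ cl x = b) (ha : 1 < a) (hb : 1 < b)
    (hc : 1 < c) (hab : a ≠ b) (exa : ∃ x : G, cl x = a) (exb : ∃ x : G, cl x = b)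
    (exc : ∃ x : G, cl x = c) (hd : a ∣ b) : False := by
  have hno : ∀ r : ℕ, r.Prime → r ∣ a → r ∣ b → r ∣ c → False := by
    intro r hr h1 h2 h3
    obtain ⟨x, hx⟩ := exa
    obtain ⟨u, huc, hu⟩ := not_dvd_all hZ hr (hx.symm ▸ h1)
    rcases hv u with e | e | e | e
    · exact huc (cl_eq_one.mp e)
    · exact hu (e.symm ▸ h1)
    · exact hu (e.symm ▸ h3)
    · exact hu (e.symm ▸ h2)
  obtain ⟨r, hr, hra⟩ := Nat.exists_prime_and_dvd ha.ne'
  have hT : Tri G b a c :=
    { one_m := ha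
      one_n₂ := hc
      one_L := hb
      cop := Nat.coprime_of_dvd fun s hs h1 h3 => hno s hs h1 (h1.trans hd) h3
      vals := hv
      exX := exa
      exY := exc
      exL := exb
      ndX := fun h => hab (Nat.dvd_antisymm hd h)
      ndY := fun h => hno r hr hra (hra.trans hd) ((hra.trans hd).trans h)
      centre := hZ
      notSolv := hns }
  exact hT.false hd

theorem main (hZ : center G = ⊥)
    (h : Nat.card {n : ℕ | 1 < n ∧ ∃ x : G, cl x = n} ≤ 3) :
    Group.IsSolvable G ∨ ∃ a : ℕ, 0 < a ∧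
      Nonempty (G ≃* Matrix.ProjectiveSpecialLinearGroup (Fin 2) (GaloisField 2 a)) := by
  by_cases hns : Group.IsSolvable G
  · exact Or.inl hns
  refine Or.inr ?_
  have hfin : {n : ℕ | 1 < n ∧ ∃ x : G, cl x = n}.Finite :=
    (Set.finite_range (cl (G := G))).subset fun n hn => hn.2
  set T := hfin.toFinset with hTdef
  have hT3 : T.card ≤ 3 := by rwa [← Set.ncard_eq_toFinset_card _ hfin, ← Nat.card_coe_set_eq]
  have hmem : ∀ n, n ∈ T ↔ 1 < n ∧ ∃ x : G, cl x = n := fun n => hfin.mem_toFinset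
  have hval : ∀ x : G, cl x = 1 ∨ cl x ∈ T := fun x => by
    rcases Nat.eq_or_lt_of_le (cl_pos x) with e | e
    · exact Or.inl e.symm
    · exact Or.inr ((hmem _).mpr ⟨e, x, rfl⟩)
  -- at most two sizes
  have h2sizes : ∀ a b : ℕ, 1 < a → a < b → ¬ T ⊆ {a, b} := fun a b ha hab hsub =>
    H3.false (G := G) (n₁ := b) (n₂ := a) ⟨ha, hab, fun x => (hval x).imp_right fun hx => by
      simpa using hsub hx, hns⟩
  have hcard : T.card = 3 := by
    by_contra hne
    obtain h0 | h1 | h2 : T.card = 0 ∨ T.card = 1 ∨ T.card = 2 := by omega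
    · exact h2sizes 2 3 (by norm_num) (by norm_num) (by rw [Finset.card_eq_zero.mp h0]; simp)
    · obtain ⟨c, hc⟩ := Finset.card_eq_one.mp h1
      exact h2sizes c (c + 1) ((hmem c).mp (by simp [hc])).1 (Nat.lt_succ_self c) (by simp [hc])
    · obtain ⟨a, b, hab, hT⟩ := Finset.card_eq_two.mp h2
      have ha := ((hmem a).mp (by simp [hT])).1
      have hb := ((hmem b).mp (by simp [hT])).1
      rcases Nat.lt_or_gt_of_ne hab with hlt | hlt
      · exact h2sizes a b ha hlt (by simp [hT])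
      · exact h2sizes b a hb hlt (by simp [hT, Finset.pair_comm])
  obtain ⟨a, b, c, hab, hac, hbc, hT⟩ := Finset.card_eq_three.mp hcard
  obtain ⟨ha, exa⟩ := (hmem a).mp (by simp [hT])
  obtain ⟨hb, exb⟩ := (hmem b).mp (by simp [hT])
  obtain ⟨hc, exc⟩ := (hmem c).mp (by simp [hT])
  have hvals : ∀ x : G, cl x = 1 ∨ cl x = a ∨ cl x = b ∨ cl x = c := fun x =>
    (hval x).imp_right fun hx => by simpa [hT] using hx
  have el : ∀ {x : G}, x ≠ 1 → x ∉ center G := fun hx e => hx (by rwa [hZ, mem_bot] at e)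
  -- no class size divides another
  have hdiv : ∀ x y : G, x ∉ center G → y ∉ center G → cl x ∣ cl y → cl x = cl y := by
    intro x y hx hy hd
    by_contra hne
    have k1 : ¬ a ∣ b := fun d => false_of_dvd hns hZ (c := c)
      (fun z => by have := hvals z; omega) ha hb hc hab exa exb exc d
    have k2 : ¬ a ∣ c := fun d => false_of_dvd hns hZ (c := b)
      (fun z => by have := hvals z; omega) ha hc hb hac exa exc exb d
    have k3 : ¬ b ∣ a := fun d => false_of_dvd hns hZ (c := c)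
      (fun z => by have := hvals z; omega) hb ha hc hab.symm exb exa exc d
    have k4 : ¬ b ∣ c := fun d => false_of_dvd hns hZ (c := a)
      (fun z => by have := hvals z; omega) hb hc ha hbc exb exc exa d
    have k5 : ¬ c ∣ a := fun d => false_of_dvd hns hZ (c := b)
      (fun z => by have := hvals z; omega) hc ha hb hac.symm exc exa exb d
    have k6 : ¬ c ∣ b := fun d => false_of_dvd hns hZ (c := a)
      (fun z => by have := hvals z; omega) hc hb ha hbc.symm exc exb exa d
    rcases (hvals x).resolve_left (fun e => hx (cl_eq_one.mp e)) with e | e | e <;>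
      rcases (hvals y).resolve_left (fun e => hy (cl_eq_one.mp e)) with e' | e' | e' <;>
      rw [e, e'] at hd hne <;>
      first
        | exact hne rfl
        | exact k1 hd
        | exact k2 hd
        | exact k3 hd
        | exact k4 hd
        | exact k5 hd
        | exact k6 hd
  have hF : ∀ x y : G, x ∉ center G → y ∉ center G → ¬ C x < C y := fun x y hx hy hlt =>
    hlt.ne (eq_of_le_of_cl_eq hlt.le (hdiv y x hy hx (cl_dvd_of_le hlt.le)))
  have hnested : ¬ Nested G := by
    rintro ⟨x, y, hx, hy, ⟨k, hk⟩, hne⟩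
    have h1 := card_C_mul_cl x
    rw [← card_C_mul_cl y, hk, mul_assoc] at h1
    have h2 : cl x = k * cl y := Nat.eq_of_mul_eq_mul_left Nat.card_pos h1
    have h3 := hdiv y x (el hy) (el hx) ⟨k, h2.trans (mul_comm _ _)⟩
    refine hne ?_
    have h4 := card_C_mul_cl x
    rw [← card_C_mul_cl y, h3] at h4
    exact Nat.eq_of_mul_eq_mul_right (cl_pos x) h4
  have hfour : ¬ Four G := by
    rintro ⟨f, hf, hinj⟩
    have hsub : Finset.univ.image (fun i => cl (f i)) ⊆ T := fun n hn => by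
      obtain ⟨i, -, rfl⟩ := Finset.mem_image.mp hn
      exact (hval _).resolve_left fun e => el (hf i) (cl_eq_one.mp e)
    have hinj' : Function.Injective fun i => cl (f i) := fun i j hij => hinj (by
      have h1 := card_C_mul_cl (f i)
      rw [← card_C_mul_cl (f j), show cl (f i) = cl (f j) from hij] at h1
      exact Nat.eq_of_mul_eq_mul_right (cl_pos _) h1)
    have h1 := Finset.card_le_card hsub
    rw [Finset.card_image_of_injective _ hinj', Finset.card_univ, Fintype.card_fin] at h1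
    omega
  have hne : ∃ x : G, x ∉ center G := exa.imp fun x hx => notCenter_of_cl ha hx
  obtain ⟨⟨S, hS2, hS1, hpart⟩, hsol⟩ := data_of_free hne hF
  let e₀ : G ⧸ center G ≃* G :=
    (QuotientGroup.quotientMulEquivOfEq hZ).trans QuotientGroup.quotientBot
  have hns' : ¬ Group.IsSolvable (G ⧸ center G) := fun hq => hns
    (Group.isSolvable_of_surjective (f := e₀.toMonoidHom) e₀.surjective)
  rcases Cfsg.Agent.S4248.result S hS2 hS1 hpart with
    ⟨⟨e⟩⟩ | ⟨p, hp, hne'⟩ | ⟨H, hH⟩ | ⟨F, _, _, h4, ⟨e⟩⟩ | ⟨F, _, _, h5, hodd, ⟨e⟩⟩ | hSz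
  · refine absurd (CfsgLib.CharTheory.isSolvable_of_card_dvd_pow_mul_pow 2 3 3 1 Nat.prime_two
      Nat.prime_three ?_) hns'
    rw [Nat.card_congr e.toEquiv, Nat.card_perm, Nat.card_fin]
    decide
  · exact absurd (isSolvable_of_hughes hp hne') hns'
  · exact (not_frobenius hsol hns' H hH).elim
  · by_cases hodd : Odd (Fintype.card F)
    · by_cases h5 : Fintype.card F = 5
      · obtain ⟨i⟩ := iso_psl_five h5
        exact ⟨2, two_pos, ⟨(e₀.symm.trans e).trans i⟩⟩
      · exact absurd ((nested_psl (by rcases hodd with ⟨k, hk⟩; omega) hodd).map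
          (e.symm.trans e₀)) hnested
    · have h2 : (2 : F) = 0 := by
        by_contra h2
        exact hodd (Nat.odd_iff.2 (Nat.two_dvd_ne_zero.1 (CfsgLib.CharDegrees.odd_facts h2).2.2))
      have hchar : CharP F 2 := CharTwo.of_one_ne_zero_of_two_eq_zero one_ne_zero h2
      obtain ⟨n, -, hn⟩ := FiniteField.card F 2
      have : Fintype (GaloisField 2 n) := Fintype.ofFinite _
      have hc : Fintype.card F = Fintype.card (GaloisField 2 n) := by
        rw [hn, ← Nat.card_eq_fintype_card, GaloisField.card 2 n n.pos.ne']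
      exact ⟨n, n.pos, ⟨(e₀.symm.trans e).trans
        (CfsgLib.ClassicalLinear.pslCongr (FiniteField.ringEquivOfCardEq hc))⟩⟩
  · exact absurd ((nested_pgl h5 hodd).map
      ((e.symm : Matrix.ProjGenLinGroup (Fin 2) F ≃* (G ⧸ center G)).trans e₀)) hnested
  · obtain ⟨F, _, m, hyp, ⟨e⟩⟩ := CfsgLib.Suzuki.isoSuzuki_spec hSz
    exact absurd ((four_suzuki hyp).map (e.symm.trans e₀)) hfour

end CfsgLib.ClassSizesThreeIto
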