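import Cfsg.Agent.Lib.ClassSizesThreeIto.Unique
import Cfsg.Agent.S4146

/-!
A centerless nonsolvable group with class sizes `1, m, n₂, n₁`, where `m, n₂` are coprime: no
commuting elements of class sizes `m` and `n₂`.
-/

set_option autoImplicit false

namespace CfsgLib.ClassSizesThreeIto

open Subgroup CfsgLib.ClassSizes3 CfsgLib.ClassSizesFour

variable {G : Type*} [Group G]

/-- Class sizes `1, m, n₂, n₁` with `m, n₂` coprime, in a centerless nonsolvable group; symmetric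
in `m` and `n₂`. -/
structure Tri (G : Type*) [Group G] (n₁ m n₂ : ℕ) : Prop where
  one_m : 1 < m
  one_n₂ : 1 < n₂
  one_L : 1 < n₁
  cop : m.Coprime n₂
  vals : ∀ x : G, cl x = 1 ∨ cl x = m ∨ cl x = n₂ ∨ cl x = n₁
  exX : ∃ x : G, cl x = m
  exY : ∃ x : G, cl x = n₂
  exL : ∃ x : G, cl x = n₁
  ndX : ¬ n₁ ∣ m
  ndY : ¬ n₁ ∣ n₂
  centre : center G = ⊥
  notSolv : ¬ Group.IsSolvable G

/-- No prime has elements both of class size `m` and of class size `n₂` among its power order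
elements. -/
def NoOverlap (G : Type*) [Group G] (m n₂ : ℕ) : Prop :=
  ∀ (p : ℕ) (x y : G), p.Prime → PEl p x → cl x = m → PEl p y → cl y = n₂ → False

theorem NoOverlap.symm {m n₂ : ℕ} (h : NoOverlap G m n₂) : NoOverlap G n₂ m :=
  fun p x y hp hx hxc hy hyc => h p y x hp hy hyc hx hxc

variable {n₁ m n₂ : ℕ}

theorem Tri.symm (h : Tri G n₁ m n₂) : Tri G n₁ n₂ m where
  one_m := h.one_n₂
  one_n₂ := h.one_m
  one_L := h.one_L
  cop := h.cop.symm
  vals x := by rcases h.vals x with e | e | e | e <;> simp [e]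
  exX := h.exY
  exY := h.exX
  exL := h.exL
  ndX := h.ndY
  ndY := h.ndX
  centre := h.centre
  notSolv := h.notSolv

theorem Tri.el (h : Tri G n₁ m n₂) {x : G} (hx : x ≠ 1) : x ∉ center G := by
  rw [h.centre]
  exact fun e => hx (mem_bot.mp e)

theorem Tri.el_of_m (h : Tri G n₁ m n₂) {x : G} (hx : cl x = m) : x ∉ center G :=
  notCenter_of_cl h.one_m hx

theorem Tri.ne_one_of_m (h : Tri G n₁ m n₂) {x : G} (hx : cl x = m) : x ≠ 1 := fun e =>
  h.el_of_m hx (e ▸ one_mem _)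

theorem Tri.not_dvd (h : Tri G n₁ m n₂) : ¬ m ∣ n₂ := fun hd => by
  have := Nat.eq_one_of_dvd_coprimes h.cop dvd_rfl hd
  have := h.one_m
  omega

theorem Tri.cases (h : Tri G n₁ m n₂) {x : G} (hx : x ∉ center G) :
    cl x = m ∨ cl x = n₂ ∨ cl x = n₁ :=
  (h.vals x).resolve_left fun e => hx (cl_eq_one.mp e)

theorem Tri.eq_or_of_dvd (h : Tri G n₁ m n₂) {x : G} (hd : m ∣ cl x) : cl x = m ∨ cl x = n₁ := by
  rcases h.vals x with e | e | e | e
  · rw [e, Nat.dvd_one] at hd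
    have := h.one_m
    omega
  · exact Or.inl e
  · exact absurd (e ▸ hd) h.not_dvd
  · exact Or.inr e

theorem Tri.eq_L (h : Tri G n₁ m n₂) {x : G} (hd : n₁ ∣ cl x) : cl x = n₁ := by
  rcases h.vals x with e | e | e | e
  · rw [e, Nat.dvd_one] at hd
    have := h.one_L
    omega
  · exact absurd (e ▸ hd) h.ndX
  · exact absurd (e ▸ hd) h.ndY
  · exact e

theorem Tri.eq_of_dvd_m (h : Tri G n₁ m n₂) {x : G} (hx : x ∉ center G) (hd : cl x ∣ m) :
    cl x = m := by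
  rcases h.cases hx with e | e | e
  · exact e
  · exact absurd (e ▸ hd) h.symm.not_dvd
  · exact absurd (e ▸ hd) h.ndX

variable [Finite G]

theorem Tri.exists_X (h : Tri G n₁ m n₂) :
    ∃ (p : ℕ) (x : G), p.Prime ∧ PEl p x ∧ cl x = m := by
  obtain ⟨z, hz⟩ := h.exX
  obtain ⟨p, x, hp, hx, hle, hxc⟩ := exists_pel_noncentral (h.el_of_m hz)
  exact ⟨p, x, hp, hx, h.eq_of_dvd_m hxc (hz ▸ cl_dvd_of_le hle)⟩

theorem Tri.exists_third (h : Tri G n₁ m n₂) {p q : ℕ} (hp : p.Prime) (hq : q.Prime) :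
    ∃ (s : ℕ) (u : G), s.Prime ∧ s ≠ p ∧ s ≠ q ∧ PEl s u ∧ u ∉ center G := by
  by_contra hcon
  push Not at hcon
  refine h.notSolv (isSolvable_of_index_center hp hq fun s hs hd => ?_)
  by_contra hne
  push Not at hne
  have : Fact s.Prime := ⟨hs⟩
  obtain ⟨u, hu, huc⟩ := exists_el_of_dvd_index hd
  exact huc (hcon s u hs hne.1 hne.2 hu)

omit [Finite G] in
theorem cl_dvd_mul {x v : G} [Finite G] (hv : v ∈ C x)
    (hco : (orderOf x).Coprime (orderOf v)) : cl x ∣ cl (x * v) ∧ cl v ∣ cl (x * v) := by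
  have hmul := C_mul (show Commute x v from (mem_C.mp hv).symm) hco
  exact ⟨cl_dvd_of_le (hmul.le.trans inf_le_left), cl_dvd_of_le (hmul.le.trans inf_le_right)⟩

theorem le_of_cl_mul {x v : G} (hv : v ∈ C x) (hco : (orderOf x).Coprime (orderOf v))
    (he : cl (x * v) = cl v) : C v ≤ C x := by
  have hmul := C_mul (show Commute x v from (mem_C.mp hv).symm) hco
  rw [← eq_of_le_of_cl_eq (hmul.le.trans inf_le_right) he.symm, hmul]
  exact inf_le_left

/-- An element of the largest size below `x`. -/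
theorem Tri.L_le (h : Tri G n₁ m n₂) {x v : G} (hv : v ∈ C x) (hv₁ : cl v = n₁)
    (hco : (orderOf x).Coprime (orderOf v)) : C v ≤ C x ∧ cl x ∣ n₁ := by
  obtain ⟨h1, h2⟩ := cl_dvd_mul hv hco
  have he := h.eq_L (hv₁ ▸ h2)
  exact ⟨le_of_cl_mul hv hco (he.trans hv₁.symm), he ▸ h1⟩

theorem Tri.inter_index (h : Tri G n₁ m n₂) {x y : G} (hx : cl x = m) (hy : cl y = n₂) :
    (C x ⊓ C y).index = m * n₂ := by
  refine le_antisymm ?_ (Nat.le_of_dvd (Nat.pos_of_ne_zero index_ne_zero_of_finite)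
    (h.cop.mul_dvd_of_dvd_of_dvd (hx ▸ index_dvd_of_le inf_le_left)
      (hy ▸ index_dvd_of_le inf_le_right)))
  rw [← hx, ← hy]
  exact index_inf_le

theorem Tri.no_comm (h : Tri G n₁ m n₂) {p q : ℕ} (hp : p.Prime) (hq : q.Prime) (hpq : p ≠ q)
    {x y : G} (hx : PEl p x) (hxm : cl x = m) (hy : PEl q y) (hyn : cl y = n₂) : y ∉ C x := by
  intro hc
  have he : cl (x * y) = m * n₂ := by
    rw [cl, C_mul (show Commute x y from (mem_C.mp hc).symm) (PEl.coprime hp hq hpq hx hy)]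
    exact h.inter_index hxm hyn
  have hL : n₁ = m * n₂ := by
    rw [← he]
    refine (((h.eq_or_of_dvd (he ▸ dvd_mul_right m n₂)).resolve_left fun e => ?_)).symm
    have := h.one_n₂
    have := h.one_m
    rw [he] at e
    nlinarith
  refine h.notSolv ?_
  have hN := (Cfsg.Agent.S4146.result (G := G) m n₂ h.one_m h.one_n₂ h.cop (by
    ext i
    simp only [Set.mem_range, Set.mem_insert_iff, Set.mem_singleton_iff]
    constructor
    · rintro ⟨z, rfl⟩
      rcases h.vals z with e | e | e | e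
      · exact Or.inl e
      · exact Or.inr (Or.inl e)
      · exact Or.inr (Or.inr (Or.inl e))
      · exact Or.inr (Or.inr (Or.inr (e.trans hL)))
    · rintro (rfl | rfl | rfl | rfl)
      · exact ⟨1, cl_eq_one.mpr (one_mem _)⟩
      · exact ⟨x, hxm⟩
      · exact ⟨y, hyn⟩
      · exact ⟨x * y, he⟩)).1
  infer_instance

/-- Class sizes of `p`-regular elements in `C(x)`. -/
theorem Tri.rel_cases (h : Tri G n₁ m n₂) {k p : ℕ} (hk : n₁ = m * k) {x v : G} (hx : PEl p x)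
    (hxm : cl x = m) (hv : v ∈ C x) (hco : (orderOf v).Coprime p) :
    (C v).relIndex (C x) = 1 ∨ (C v).relIndex (C x) = k := by
  have hco' := coprime_orderOf_of_pel hx hco
  have he := relIndex_mul_cl (show Commute x v from (mem_C.mp hv).symm) hco'
  rw [hxm] at he
  have hm := h.one_m
  rcases h.eq_or_of_dvd (hxm ▸ (cl_dvd_mul hv hco').1) with e | e <;> rw [e] at he
  · exact Or.inl (Nat.eq_of_mul_eq_mul_right (by omega) (he.trans (one_mul m).symm))
  · exact Or.inr (Nat.eq_of_mul_eq_mul_right (by omega) (he.trans (hk.trans (mul_comm _ _))))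

theorem Tri.k_gt (h : Tri G n₁ m n₂) {k : ℕ} (hk : n₁ = m * k) : 1 < k := by
  by_contra hcon
  rcases Nat.le_one_iff_eq_zero_or_eq_one.mp (not_lt.mp hcon) with rfl | rfl
  · have := h.one_L
    simp at hk
    omega
  · exact h.ndX (by rw [hk, mul_one])

theorem Tri.trichotomy (h : Tri G n₁ m n₂) {k p : ℕ} (hk : n₁ = m * k) (hp : p.Prime) {x : G}
    (hx : PEl p x) (hxm : cl x = m) :
    (∀ v ∈ C x, (orderOf v).Coprime p → C x ≤ C v) ∨
    ((∃ j, k = p ^ j) ∧ ∃ H ≤ C x, (∀ a ∈ H, ∀ b ∈ H, Commute a b) ∧ ¬ p ∣ Nat.card H ∧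
      ∃ j, H.relIndex (C x) = p ^ j) ∨
    ∃ q : ℕ, q.Prime ∧ q ≠ p ∧
      ∀ t : ℕ, t.Prime → t ≠ p → t ≠ q → ∀ v ∈ C x, PEl t v → C x ≤ C v :=
  regular_trichotomy (h.k_gt hk) hp fun _ hv hco => h.rel_cases hk hx hxm hv hco

/-- An element central in `C(x)` of another prime does not commute with `y`. -/
theorem Tri.central_not_mem (h : Tri G n₁ m n₂) {s q : ℕ} (hs : s.Prime) (hq : q.Prime)
    (hsq : s ≠ q) {x v y : G} (hxm : cl x = m) (hvs : PEl s v) (hvc : v ∉ center G)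
    (hle : C x ≤ C v) (hy : PEl q y) (hyn : cl y = n₂) : y ∉ C x := fun hc =>
  h.no_comm hs hq hsq hvs (h.eq_of_dvd_m hvc (hxm ▸ cl_dvd_of_le hle)) hy hyn (hle hc)

theorem Tri.no_w_aux (h : Tri G n₁ m n₂) {p t : ℕ} (hp : p.Prime) (hpn : ¬ p ∣ n₂) (ht : t.Prime)
    (htp : t ≠ p) {x y w : G} (hx : PEl p x) (hxm : cl x = m) (hy : PEl p y) (hyn : cl y = n₂)
    (hc : y ∈ C x) (hwx : w ∈ C x) (hwy : w ∈ C y) (hw : PEl t w) (hwc : w ∉ center G) : False := by
  rcases h.cases hwc with e | e | e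
  · exact h.no_comm ht hp htp hw e hy hyn (C_comm hwy)
  · exact h.no_comm hp ht htp.symm hx hxm hw e hwx
  have hd1 := hxm ▸ (h.L_le hwx e (PEl.coprime hp ht htp.symm hx hw)).2
  have hd2 := hyn ▸ (h.L_le hwy e (PEl.coprime hp ht htp.symm hy hw)).2
  obtain ⟨k, hk⟩ := hd1
  have hnk : n₂ ∣ k := h.cop.symm.dvd_of_dvd_mul_left (hk ▸ hd2)
  have hnot : ¬ C x ≤ C w := fun hle => h.ndX (by rw [← e, ← hxm]; exact cl_dvd_of_le hle)
  rcases h.trichotomy hk hp hx hxm with h0 | ⟨⟨j, hj⟩, -⟩ | ⟨q, hq, hqp, hcen⟩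
  · exact hnot (h0 w hwx (orderOf_coprime_of_pel hp ht htp hw))
  · obtain ⟨s, hs, hsd⟩ := Nat.exists_prime_and_dvd h.one_n₂.ne'
    refine hpn ?_
    rwa [← (Nat.prime_dvd_prime_iff_eq hs hp).mp (hs.dvd_of_dvd_pow (hj ▸ hsd.trans hnk))]
  have htq : t = q := by_contra fun htq => hnot (hcen t ht htp htq w hwx hw)
  obtain ⟨s, u, hs, hsp, hsq, hu, huc⟩ := h.exists_third hp hq
  have : Fact s.Prime := ⟨hs⟩
  have hsm : s ∣ m := by
    by_contra hsm
    obtain ⟨c, hcu⟩ := exists_conj_mem_C (x := x) (hxm ▸ hsm) hu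
    have hvx : c⁻¹ * u * c⁻¹⁻¹ ∈ C x := by
      have := conj_mem_conj (g := c⁻¹) (C_comm hcu)
      rwa [show c⁻¹ * (c * x * c⁻¹) * c⁻¹⁻¹ = x by group] at this
    exact h.central_not_mem hs hp hsp hxm (hu.conj c⁻¹) (fun e => huc (mem_center_conj.mp e))
      (hcen s hs hsp hsq _ hvx (hu.conj c⁻¹)) hy hyn hc
  obtain ⟨c, hcu⟩ := exists_conj_mem_C (x := y)
    (show ¬ s ∣ cl y from hyn ▸ fun hd => hs.ne_one (Nat.eq_one_of_dvd_coprimes h.cop hsm hd)) hu
  have hvy : c⁻¹ * u * c⁻¹⁻¹ ∈ C y := by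
    have := conj_mem_conj (g := c⁻¹) (C_comm hcu)
    rwa [show c⁻¹ * (c * y * c⁻¹) * c⁻¹⁻¹ = y by group] at this
  obtain ⟨k', hk'⟩ := hd2
  have hmk : m ∣ k' := h.cop.dvd_of_dvd_mul_left (hk' ▸ hk ▸ dvd_mul_right m k)
  have hnot' : ¬ C y ≤ C w := fun hle => h.ndY (by rw [← e, ← hyn]; exact cl_dvd_of_le hle)
  rcases h.symm.trichotomy hk' hp hy hyn with h0 | ⟨⟨j, hj⟩, -⟩ | ⟨q', hq', hq'p, hcen'⟩
  · exact hnot' (h0 w hwy (orderOf_coprime_of_pel hp ht htp hw))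
  · exact hsp ((Nat.prime_dvd_prime_iff_eq hs hp).mp (hs.dvd_of_dvd_pow (hj ▸ hsm.trans hmk)))
  · have htq' : t = q' := by_contra fun htq' => hnot' (hcen' t ht htp htq' w hwy hw)
    exact h.symm.central_not_mem hs hp hsp hyn (hu.conj c⁻¹)
      (fun e => huc (mem_center_conj.mp e)) (hcen' s hs hsp (htq' ▸ htq ▸ hsq) _ hvy (hu.conj c⁻¹))
      hx hxm (C_comm hc)

theorem Tri.no_w (h : Tri G n₁ m n₂) {p t : ℕ} (hp : p.Prime) (ht : t.Prime) (htp : t ≠ p)
    {x y w : G} (hx : PEl p x) (hxm : cl x = m) (hy : PEl p y) (hyn : cl y = n₂)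
    (hc : y ∈ C x) (hwx : w ∈ C x) (hwy : w ∈ C y) (hw : PEl t w) (hwc : w ∉ center G) : False := by
  by_cases hpn : p ∣ n₂
  · exact h.symm.no_w_aux hp (fun hd => hp.ne_one (Nat.eq_one_of_dvd_coprimes h.cop hd hpn)) ht
      htp hy hyn hx hxm (C_comm hc) hwy hwx hw hwc
  · exact h.no_w_aux hp hpn ht htp hx hxm hy hyn hc hwx hwy hw hwc

/-- With `m ∣ n₁`: elements of sizes `m` and `n₂` of one prime do not commute. -/
theorem Tri.no_comm_same (h : Tri G n₁ m n₂) (hm : m ∣ n₁) {p : ℕ} (hp : p.Prime)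
    {x y : G} (hx : PEl p x) (hxm : cl x = m) (hy : PEl p y) (hyn : cl y = n₂) : y ∉ C x := by
  intro hc
  have hmp : ∀ t : ℕ, t.Prime → t ∣ m → t = p := by
    intro t ht htm
    by_contra htp
    have : Fact t.Prime := ⟨ht⟩
    obtain ⟨u, hu, hux⟩ := exists_pel_of_dvd_cl (w := x) (p := t) (hxm ▸ htm)
    obtain ⟨c, hcu⟩ := exists_conj_mem_C (x := y)
      (show ¬ t ∣ cl y from hyn ▸ fun hd => ht.ne_one (Nat.eq_one_of_dvd_coprimes h.cop htm hd)) hu
    have hvy : c⁻¹ * u * c⁻¹⁻¹ ∈ C y := by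
      have := conj_mem_conj (g := c⁻¹) (C_comm hcu)
      rwa [show c⁻¹ * (c * y * c⁻¹) * c⁻¹⁻¹ = y by group] at this
    set v := c⁻¹ * u * c⁻¹⁻¹
    have hv : PEl t v := hu.conj c⁻¹
    have hvc : v ∉ center G := fun e => hux (center_le_C x (mem_center_conj.mp e))
    have hco := PEl.coprime hp ht (Ne.symm htp) hy hv
    have hcy : Commute y v := (mem_C.mp hvy).symm
    rcases h.symm.eq_or_of_dvd (hyn ▸ (cl_dvd_mul hvy hco).1) with e | e
    · have hle : C y ≤ C v := by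
        rw [← eq_of_le_of_cl_eq ((C_mul hcy hco).le.trans inf_le_left) (hyn.trans e.symm),
          C_mul hcy hco]
        exact inf_le_right
      exact h.symm.central_not_mem ht hp htp hyn hv hvc hle hx hxm (C_comm hc)
    · have hn : n₂ ∣ n₁ := e ▸ hyn ▸ (cl_dvd_mul hvy hco).1
      have hmn : m * n₂ ∣ n₁ := h.cop.mul_dvd_of_dvd_of_dvd hm hn
      have htv : t ∣ Nat.card (C (y * v)) := by
        have hvm : v ∈ C (y * v) := by
          rw [C_mul hcy hco]
          exact ⟨hvy, self_mem_C v⟩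
        refine dvd_trans ?_ (Subgroup.orderOf_dvd_natCard _ hvm)
        obtain ⟨i, hi⟩ := hv
        obtain ⟨j, -, hj⟩ := (Nat.dvd_prime_pow ht).mp (orderOf_dvd_of_pow_eq_one hi)
        rcases Nat.eq_zero_or_pos j with rfl | hj0
        · rw [pow_zero, orderOf_eq_one_iff] at hj
          exact absurd (hj ▸ one_mem _) hvc
        · exact hj ▸ dvd_pow_self t hj0.ne'
      have hcard := card_C_mul_cl (y * v)
      have hD := card_mul_index (C x ⊓ C y)
      rw [h.inter_index hxm hyn, ← hcard, e] at hD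
      have h1 : t * (m * n₂) ∣ Nat.card (C x ⊓ C y : Subgroup G) * (m * n₂) :=
        hD ▸ Nat.mul_dvd_mul htv hmn
      have h2 : t ∣ Nat.card (C x ⊓ C y : Subgroup G) :=
        Nat.dvd_of_mul_dvd_mul_right (Nat.mul_pos (by have := h.one_m; omega)
          (by have := h.one_n₂; omega)) h1
      obtain ⟨⟨w, hwm⟩, hwo⟩ := exists_prime_orderOf_dvd_card' t h2
      rw [Subgroup.orderOf_mk] at hwo
      refine h.no_w hp ht htp hx hxm hy hyn hc hwm.1 hwm.2
        ⟨1, by rw [pow_one, ← hwo, pow_orderOf_eq_one]⟩ (h.el fun e1 => ?_)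
      rw [e1, orderOf_one] at hwo
      exact ht.ne_one hwo.symm
  obtain ⟨k, hk⟩ := hm
  have hfin : ∀ q : ℕ, q.Prime →
      (∀ t : ℕ, t.Prime → t ≠ p → t ≠ q → ∀ v ∈ C x, PEl t v → C x ≤ C v) → False := by
    intro q hq hcen
    obtain ⟨s, u, hs, hsp, hsq, hu, huc⟩ := h.exists_third hp hq
    have : Fact s.Prime := ⟨hs⟩
    obtain ⟨c, hcu⟩ := exists_conj_mem_C (x := x) (hxm ▸ fun hd => hsp (hmp s hs hd)) hu
    have hvx : c⁻¹ * u * c⁻¹⁻¹ ∈ C x := by
      have := conj_mem_conj (g := c⁻¹) (C_comm hcu)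
      rwa [show c⁻¹ * (c * x * c⁻¹) * c⁻¹⁻¹ = x by group] at this
    exact h.central_not_mem hs hp hsp hxm (hu.conj c⁻¹) (fun e => huc (mem_center_conj.mp e))
      (hcen s hs hsp hsq _ hvx (hu.conj c⁻¹)) hy hyn hc
  rcases h.trichotomy hk hp hx hxm with h0 | ⟨-, H, hHle, hHc, hHp, j, hj⟩ | ⟨q, hq, -, hcen⟩
  · exact hfin p hp fun t ht htp _ v hv hvt => h0 v hv (orderOf_coprime_of_pel hp ht htp hvt)
  · have hm0 : m ≠ 0 := by have := h.one_m; omega
    obtain hme := Nat.eq_prime_pow_of_unique_prime_dvd hm0 (p := p) fun {d} hd hdm => hmp d hd hdm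
    have hidx : ∃ i, H.relIndex (⊤ : Subgroup G) = p ^ i := by
      refine ⟨j + m.primeFactorsList.length, ?_⟩
      rw [relIndex_top_right, ← relIndex_mul_index hHle, hj, show (C x).index = m from hxm, pow_add,
        ← hme]
    have := isSolvable_of_complement hp le_top hHc hHp hidx
    exact h.notSolv (Group.isSolvable_of_surjective (f := (topEquiv (G := G)).toMonoidHom)
      topEquiv.surjective)
  · exact hfin q hq hcen

/-- With `m ∣ n₁`: no prime has elements of both sizes. -/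
theorem Tri.noOverlap (h : Tri G n₁ m n₂) (hm : m ∣ n₁) : NoOverlap G m n₂ := by
  intro p x y hp hx hxm hy hyn
  have : Fact p.Prime := ⟨hp⟩
  by_cases hpn : p ∣ n₂
  · obtain ⟨c, hc⟩ := exists_conj_mem_C (x := x)
      (hxm ▸ fun hd => hp.ne_one (Nat.eq_one_of_dvd_coprimes h.cop hd hpn)) hy
    exact h.no_comm_same hm hp (hx.conj c) ((cl_conj c x).trans hxm) hy hyn (C_comm hc)
  · obtain ⟨c, hc⟩ := exists_conj_mem_C (x := y) (hyn ▸ hpn) hx
    exact h.no_comm_same hm hp hx hxm (hy.conj c) ((cl_conj c y).trans hyn) hc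

end CfsgLib.ClassSizesThreeIto
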