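import Cfsg.Agent.Lib.ClassSizesThreeIto.Containment
import Cfsg.Agent.Lib.CoprimeAction.Abelian
import Cfsg.Agent.Lib.PSolvable.ProductSolvable
import Cfsg.Agent.Lib.PSolvable.Products

/-!
Exactly three class sizes, nested centralizers: a noncentral element commutes with the
noncentral `p'`-elements of prime power order of one centralizer only, and every centralizer of
a noncentral element is solvable.
-/

set_option autoImplicit false

namespace CfsgLib.ClassSizesThreeIto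

open Subgroup CfsgLib.ClassSizes3 CfsgLib.ClassSizesFour

variable {G : Type*} [Group G] [Finite G]

theorem mem_zpowers_of_cyclic {A : Type*} [Group A] [Finite A] [IsCyclic A] {s : ℕ}
    [hs : Fact s.Prime] {c c' : A} (hc : c ^ s = 1) (hc1 : c ≠ 1) (hc' : c' ^ s = 1) :
    c' ∈ zpowers c := by
  classical
  have := Fintype.ofFinite A
  have ho := orderOf_eq_prime hc hc1
  have hsub : (zpowers c : Set A).toFinset ⊆ Finset.univ.filter fun a : A => a ^ s = 1 := by
    intro a ha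
    rw [Set.mem_toFinset, SetLike.mem_coe] at ha
    obtain ⟨i, rfl⟩ := mem_zpowers_iff.mp ha
    rw [Finset.mem_filter, ← zpow_natCast, ← zpow_mul, mul_comm, zpow_mul, zpow_natCast, hc,
      one_zpow]
    exact ⟨Finset.mem_univ _, rfl⟩
  have hle : (Finset.univ.filter fun a : A => a ^ s = 1).card ≤ (zpowers c : Set A).toFinset.card := by
    rw [Set.toFinset_card]
    refine (IsCyclic.card_pow_eq_one_le hs.out.pos).trans (le_of_eq ?_)
    rw [← Nat.card_eq_fintype_card]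
    exact (ho.symm.trans (Nat.card_zpowers c).symm)
  have heq := Finset.eq_of_subset_of_card_le hsub hle
  have hm : c' ∈ (zpowers c : Set A).toFinset := heq ▸ Finset.mem_filter.mpr ⟨Finset.mem_univ _, hc'⟩
  exact Set.mem_toFinset.mp hm

omit [Finite G] in
/-- The first power `x ^ t ^ i` outside `K` whose `t`-th power is in `K`. -/
theorem exists_pow_step {t : ℕ} {x : G} (hx : PEl t x) {K : Subgroup G} (hK : x ∉ K) :
    ∃ i : ℕ, x ^ t ^ i ∉ K ∧ (x ^ t ^ i) ^ t ∈ K := by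
  by_contra hcon
  push Not at hcon
  have hall : ∀ i : ℕ, x ^ t ^ i ∉ K := fun i => by
    induction i with
    | zero => rwa [pow_zero, pow_one]
    | succ i ih => rw [pow_succ, pow_mul]; exact hcon i ih
  obtain ⟨e, he⟩ := hx
  exact hall e (he ▸ one_mem K)

variable {n₁ n₂ k p : ℕ}

theorem Setting.dvd_cl (hs : Setting G n₁ n₂ k p) {r : ℕ} (hr : r.Prime) (hrp : r ≠ p)
    (hri : r ∣ (center G).index) {x : G} (hx : x ∉ center G) : r ∣ cl x := by
  have : Fact r.Prime := ⟨hr⟩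
  have hrn : r ∣ n₂ := by
    by_contra hn
    obtain ⟨u, hu, huc⟩ := exists_el_of_dvd_index hri
    refine huc (central_of_forall_not_dvd (fun z hd => ?_) hu)
    rcases hs.nest.base.vals z with e | e | e <;> rw [e] at hd
    · exact hr.one_lt.ne' (Nat.dvd_one.mp hd)
    · exact hn hd
    · rw [hs.nest.hk] at hd
      exact (hr.dvd_mul.mp hd).elim (fun h1 => hrp (hs.kpow r hr h1)) hn
  rcases hs.nest.base.cases hx with e | e <;> rw [e]
  · exact hrn
  · rw [hs.nest.hk]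
    exact hrn.mul_left k

theorem Setting.exists_big (hs : Setting G n₁ n₂ k p) {x : G} (hx : x ∉ center G) :
    ∃ w ∈ C x, Big p w := by
  obtain ⟨r, hr, hrp, -, w, hw, hwr, hwc⟩ := hs.exists_mem_third hs.hp hx
  exact ⟨w, hw, r, hr, hrp, hwr, hwc⟩

section Part

variable {r : ℕ} {w₀ : G} {R : Subgroup G}

theorem Setting.mem_part (hs : Setting G n₁ n₂ k p) (hw₀ : Big p w₀) [hr : Fact r.Prime]
    (hrp : r ≠ p) (hR : SylowIn r (C w₀) R) {x : G} (hx : PEl r x) (hxC : x ∈ C w₀) : x ∈ R := by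
  obtain ⟨c, hc, hcx⟩ := hR.conj_mem hx hxC
  have hle := hs.big_le hw₀ hxC (orderOf_coprime_of_pel hs.hp hr.out hrp hx)
  rwa [mem_C.mp (hle hc), mul_inv_cancel_right] at hcx

theorem Setting.C_part (hs : Setting G n₁ n₂ k p) (hw₀ : Big p w₀) [hr : Fact r.Prime]
    (hrp : r ≠ p) (hR : SylowIn r (C w₀) R) {x : G} (hx : x ∈ R) (hxc : x ∉ center G) :
    C x = C w₀ :=
  (hs.comm_eq hw₀ ⟨r, hr.out, hrp, PEl.of_mem hR.isPGroup hx, hxc⟩ (hR.le hx)).symm

/-- The `r`-part of `C(w₀)` is cyclic modulo the centre when it normalises a `p`-group that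
`C(w₀)` does not contain. -/
theorem Setting.isCyclic_part (hs : Setting G n₁ n₂ k p) (hw₀ : Big p w₀) [hr : Fact r.Prime]
    (hrp : r ≠ p) (hR : SylowIn r (C w₀) R) {V : Subgroup G} (hV : IsPGroup p V)
    (hn : R ≤ normalizer (V : Set G)) (hVC : ¬ V ≤ C w₀) :
    IsCyclic (R.map (QuotientGroup.mk' (center G))) := by
  by_contra hA
  set f := QuotientGroup.mk' (center G) with hf
  have : Fact p.Prime := ⟨hs.hp⟩
  have : IsMulCommutative (R.map f) := by
    refine ⟨⟨?_⟩⟩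
    rintro ⟨_, a, ha, rfl⟩ ⟨_, b, hb, rfl⟩
    have h1 : C w₀ ≤ C b := hs.big_le hw₀ (hR.le hb)
      (orderOf_coprime_of_pel hs.hp hr.out hrp (PEl.of_mem hR.isPGroup hb))
    refine Subtype.ext ?_
    show f a * f b = f b * f a
    rw [← map_mul, ← map_mul, mem_C.mp (h1 (hR.le ha))]
  have key : V.map f ≤ (V ⊓ C w₀).map f := by
    refine CfsgLib.CoprimeAction.le_of_centralizers hA
      ((map_mono hn).trans (le_normalizer_map f))
      (IsPGroup.coprime_card_of_ne r p hrp _ _ (hR.isPGroup.map f) (hV.map f)) ?_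
    rintro _ ⟨a, ha, rfl⟩ hne _ ⟨⟨v, hv, rfl⟩, hc⟩
    refine ⟨v, ⟨hv, ?_⟩, rfl⟩
    have hac : a ∉ center G := fun h => hne ((QuotientGroup.eq_one_iff a).mpr h)
    have hz : v⁻¹ * (a * v * a⁻¹) ∈ center G := by
      rw [← QuotientGroup.eq, ← QuotientGroup.mk'_apply, ← QuotientGroup.mk'_apply, ← hf]
      rw [map_mul, map_mul, map_inv, ← mem_centralizer_singleton_iff.mp hc, mul_inv_cancel_right]
    have hav : a ∈ C v := commute_of_central_shift hr.out hs.hp hrp (PEl.of_mem hR.isPGroup ha)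
      (PEl.of_mem hV hv) hz (mul_inv_cancel_left v _).symm
    rw [← hs.C_part hw₀ hrp hR ha hac]
    exact C_comm hav
  refine hVC fun v hv => ?_
  obtain ⟨v', ⟨-, hv'C⟩, he⟩ := key (mem_map_of_mem f hv)
  have h1 : v'⁻¹ * v ∈ C w₀ := center_le_C w₀ (QuotientGroup.eq.mp he)
  simpa using mul_mem hv'C h1

/-- An `r`-element outside `C(w₀)` normalising it, with `r`-th power inside. -/
theorem Setting.exists_normalizing (hs : Setting G n₁ n₂ k p) (hw₀ : Big p w₀) [hr : Fact r.Prime]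
    (hrp : r ≠ p) (hri : r ∣ (center G).index) :
    ∃ g : G, PEl r g ∧ g ∉ C w₀ ∧ g ^ r ∈ C w₀ ∧ ∀ x ∈ C w₀, g * x * g⁻¹ ∈ C w₀ := by
  have hw₀c : w₀ ∉ center G := by obtain ⟨_, _, _, _, h⟩ := hw₀; exact h
  obtain ⟨R, hR⟩ := exists_sylowIn (p := r) (C w₀)
  obtain ⟨P, hP, hRP⟩ := exists_sylowIn_ge hR.isPGroup (H := (⊤ : Subgroup G)) le_top
  have : Group.IsNilpotent P := hP.isPGroup.isNilpotent
  have hne : R.subgroupOf P ≠ ⊤ := fun h =>
    not_dvd_cl_of_le hP ((subgroupOf_eq_top.mp h).trans hR.le)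
      (hs.dvd_cl hr.out hrp hri hw₀c)
  obtain ⟨⟨g₀, hg₀P⟩, hg₀N, hg₀R⟩ :=
    SetLike.exists_of_lt (Group.normalizerCondition_of_isNilpotent (R.subgroupOf P) hne.lt_top)
  have hg₀C : g₀ ∉ C w₀ := fun h =>
    hg₀R (mem_subgroupOf.mpr (hs.mem_part hw₀ hrp hR (PEl.of_mem hP.isPGroup hg₀P) h))
  obtain ⟨h, hh, hhr, hhc⟩ := hs.exists_mem hr.out hrp hri hw₀c
  have hhR := hs.mem_part hw₀ hrp hR hhr hh
  have hconjR : g₀ * h * g₀⁻¹ ∈ R :=
    mem_subgroupOf.mp ((mem_normalizer_iff.mp hg₀N ⟨h, hRP hhR⟩).mp (mem_subgroupOf.mpr hhR))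
  have hconj : ∀ x ∈ C w₀, g₀ * x * g₀⁻¹ ∈ C w₀ := fun x hx => by
    rw [← hs.C_part hw₀ hrp hR hhR hhc] at hx
    rw [← hs.C_part hw₀ hrp hR hconjR fun e => hhc (mem_center_conj.mp e)]
    exact conj_mem_conj hx
  have hpow : ∀ n : ℕ, ∀ x ∈ C w₀, g₀ ^ n * x * (g₀ ^ n)⁻¹ ∈ C w₀ := by
    intro n
    induction n with
    | zero => intro x hx; simpa using hx
    | succ n ih =>
      intro x hx
      rw [show g₀ ^ (n + 1) * x * (g₀ ^ (n + 1))⁻¹ = g₀ * (g₀ ^ n * x * (g₀ ^ n)⁻¹) * g₀⁻¹ by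
        rw [pow_succ']; group]
      exact hconj _ (ih x hx)
  obtain ⟨i, hi, hi'⟩ := exists_pow_step (PEl.of_mem hP.isPGroup hg₀P) hg₀C
  exact ⟨_, (PEl.of_mem hP.isPGroup hg₀P).pow _, hi, hi', hpow _⟩

/-- Two primes of cyclic parts of `C(w₀)`: the first divides the second minus one. -/
theorem Setting.dvd_sub_one (hs : Setting G n₁ n₂ k p) (hw₀ : Big p w₀) [hr : Fact r.Prime]
    (hrp : r ≠ p) (hri : r ∣ (center G).index) {s : ℕ} [hsF : Fact s.Prime] (hsp : s ≠ p)
    (hsi : s ∣ (center G).index) (hrs : r ≠ s) {S : Subgroup G} (hS : SylowIn s (C w₀) S)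
    (hcyc : IsCyclic (S.map (QuotientGroup.mk' (center G)))) : r ∣ s - 1 := by
  set f := QuotientGroup.mk' (center G) with hf
  have hw₀c : w₀ ∉ center G := by obtain ⟨_, _, _, _, h⟩ := hw₀; exact h
  obtain ⟨g, hg, hgC, hgr, hgn⟩ := hs.exists_normalizing hw₀ hrp hri
  obtain ⟨x, hx, hxs, hxc⟩ := hs.exists_mem hsF.out hsp hsi hw₀c
  obtain ⟨i, hτc, hτs⟩ := exists_pow_step hxs hxc
  set τ := x ^ s ^ i
  have hτS : τ ∈ S := pow_mem (hs.mem_part hw₀ hsp hS hxs hx) _
  have hτel : PEl s τ := hxs.pow _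
  have hτ'S : g * τ * g⁻¹ ∈ S :=
    hs.mem_part hw₀ hsp hS (hτel.conj g) (hgn τ (hS.le hτS))
  have hcs : f τ ^ s = 1 := by rw [← map_pow]; exact (QuotientGroup.eq_one_iff _).mpr hτs
  have hcs' : f (g * τ * g⁻¹) ^ s = 1 := by
    rw [← map_pow, conj_pow, map_mul, map_mul, map_pow f τ, hcs, mul_one, map_inv,
      mul_inv_cancel]
  have hc1 : f τ ≠ 1 := fun h => hτc ((QuotientGroup.eq_one_iff τ).mp h)
  have hmem := mem_zpowers_of_cyclic (s := s)
    (c := (⟨f τ, mem_map_of_mem f hτS⟩ : S.map f))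
    (c' := ⟨f (g * τ * g⁻¹), mem_map_of_mem f hτ'S⟩) (Subtype.ext hcs)
    (fun e => hc1 (congrArg Subtype.val e)) (Subtype.ext hcs')
  rw [← mem_powers_iff_mem_zpowers] at hmem
  obtain ⟨j, hj⟩ := hmem
  have hj' : f g * f τ * (f g)⁻¹ = f τ ^ j := by
    rw [← map_inv, ← map_mul, ← map_mul]
    exact (congrArg Subtype.val hj).symm
  have hiter : ∀ n : ℕ, f g ^ n * f τ * (f g ^ n)⁻¹ = f τ ^ j ^ n := by
    intro n
    induction n with
    | zero => simp
    | succ n ih =>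
      rw [show f g ^ (n + 1) * f τ * (f g ^ (n + 1))⁻¹ =
          f g * (f g ^ n * f τ * (f g ^ n)⁻¹) * (f g)⁻¹ by rw [pow_succ']; group,
        ih, ← conj_pow, hj', ← pow_mul, pow_succ']
  have hτC : C τ = C w₀ := hs.C_part hw₀ hsp hS hτS hτc
  have hfix : f τ ^ j ^ r = f τ ^ 1 := by
    rw [← hiter r, pow_one, ← map_pow, ← map_inv, ← map_mul, ← map_mul]
    congr 1
    rw [← hτC] at hgr
    rw [mem_C.mp hgr, mul_inv_cancel_right]
  have hjr : (j : ZMod s) ^ r = 1 := by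
    have h1 := pow_eq_pow_iff_modEq.mp hfix
    rw [orderOf_eq_prime hcs hc1, ← ZMod.natCast_eq_natCast_iff] at h1
    simpa using h1
  have hj1 : (j : ZMod s) ≠ 1 := by
    intro e
    have h1 : f τ ^ j = f τ ^ 1 := by
      rw [pow_eq_pow_iff_modEq, orderOf_eq_prime hcs hc1, ← ZMod.natCast_eq_natCast_iff]
      simpa using e
    rw [← hj', pow_one, ← map_inv, ← map_mul, ← map_mul] at h1
    have hz : τ⁻¹ * (g * τ * g⁻¹) ∈ center G := QuotientGroup.eq.mp h1.symm
    exact hgC (hτC ▸ commute_of_central_shift hr.out hsF.out hrs hg hτel hz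
      (mul_inv_cancel_left τ _).symm)
  have hj0 : (j : ZMod s) ≠ 0 := fun e => by
    rw [e, zero_pow hr.out.ne_zero] at hjr
    exact zero_ne_one hjr
  rw [← orderOf_eq_prime hjr hj1]
  exact ZMod.orderOf_dvd_card_sub_one hj0

end Part

omit [Finite G] in
theorem isNilpotent_of_commute {A : Subgroup G} (h : ∀ a ∈ A, ∀ b ∈ A, Commute a b) :
    Group.IsNilpotent A :=
  ⟨⟨1, by
    rw [Subgroup.upperCentralSeries_one, eq_top_iff]
    exact fun a _ => mem_center_iff.mpr fun b => Subtype.ext (h _ b.2 _ a.2).eq⟩⟩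

/-- A group with an abelian `p`-complement is solvable. -/
theorem isSolvable_of_complement (hp : p.Prime) {D H : Subgroup G} (hHle : H ≤ D)
    (hHc : ∀ a ∈ H, ∀ b ∈ H, Commute a b) (hHp : ¬ p ∣ Nat.card H)
    (hHi : ∃ j, H.relIndex D = p ^ j) : Group.IsSolvable D := by
  have : Fact p.Prime := ⟨hp⟩
  set K : Subgroup D := H.subgroupOf D with hKdef
  obtain ⟨j, hj⟩ := hHi
  have hKi : K.index = p ^ j := hj
  have hKp : ¬ p ∣ Nat.card K :=
    (Nat.card_congr (subgroupOfEquivOfLe hHle).toEquiv) ▸ hHp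
  obtain ⟨P⟩ : Nonempty (Sylow p D) := inferInstance
  refine CfsgLib.PSolvable.isSolvable_of_nilpotent_factors P.isPGroup'.isNilpotent
    (isNilpotent_of_commute (A := K) fun a ha b hb => Subtype.ext (hHc _ ha _ hb).eq)
    (CfsgLib.PSolvable.isFactor_of_card ?_)
  have h0 : Nat.card ((P : Subgroup D) ⊓ K : Subgroup D) = 1 := by
    have hco : (Nat.card P).Coprime (Nat.card K) := by
      rw [P.card_eq_multiplicity]
      exact ((hp.coprime_iff_not_dvd).mpr hKp).pow_left _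
    exact Nat.eq_one_of_dvd_coprimes hco (card_dvd_of_le inf_le_left) (card_dvd_of_le inf_le_right)
  rw [h0, mul_one, P.card_eq_multiplicity]
  nth_rewrite 1 [← card_mul_index K]
  rw [hKi, mul_comm]
  exact Nat.mul_le_mul_right _ (Nat.pow_le_pow_right hp.pos
    ((hp.pow_dvd_iff_le_factorization Nat.card_pos.ne').mp (hKi ▸ K.index_dvd_card)))

/-- With an abelian `p`-complement, the noncentral `p'`-elements of prime power order of `C(u)`
lie in it. -/
theorem Setting.complement_mem (hs : Setting G n₁ n₂ k p) {u : G}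
    {H : Subgroup G} (hHle : H ≤ C u) (hHc : ∀ a ∈ H, ∀ b ∈ H, Commute a b)
    (hHp : ¬ p ∣ Nat.card H) (hHi : ∃ j, H.relIndex (C u) = p ^ j) {w : G} (hw : w ∈ C u)
    (hwb : Big p w) : w ∈ H := by
  have : Fact p.Prime := ⟨hs.hp⟩
  set D := C u
  set V : Subgroup G := (Cfsg.pCore p D).map D.subtype with hVdef
  have hDV : D ≤ normalizer (V : Set G) := by
    intro d hd
    rw [mem_normalizer_iff]
    refine fun v => ⟨?_, fun hv => ?_⟩
    · rintro ⟨x, hx, rfl⟩
      exact ⟨⟨d, hd⟩ * x * ⟨d, hd⟩⁻¹,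
        (inferInstance : (Cfsg.pCore p D).Normal).conj_mem x hx _, rfl⟩
    · obtain ⟨x, hx, hxe⟩ := hv
      refine ⟨⟨d, hd⟩⁻¹ * x * ⟨d, hd⟩,
        (inferInstance : (Cfsg.pCore p D).Normal).conj_mem' x hx _, ?_⟩
      simp only [map_mul, map_inv]
      rw [hxe]
      simp [mul_assoc]
  have hVp : IsPGroup p V := (CfsgLib.Cores.isPGroup_pCore p D).map _
  have hHV : ∀ h ∈ H, Big p h → V ≤ C h := by
    intro w₀ hw₀H hw₀
    by_contra hVC
    have hsub : ∀ {t : ℕ} [Fact t.Prime], t ≠ p → ∀ {R : Subgroup G}, SylowIn t (C w₀) R →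
        IsCyclic (R.map (QuotientGroup.mk' (center G))) := by
      intro t _ htp R hR
      refine hs.isCyclic_part hw₀ htp hR hVp (fun x hx => hDV ?_) hVC
      by_cases hxc : x ∈ center G
      · exact center_le_C u hxc
      · refine C_comm ?_
        rw [hs.C_part hw₀ htp hR hx hxc]
        exact C_comm (hHle hw₀H)
    obtain ⟨r, hr, hrp, -, hri⟩ := hs.nest.base.exists_third hs.hp hs.hp
    obtain ⟨s, hs', hsp, hsr, hsi⟩ := hs.nest.base.exists_third hs.hp hr
    have : Fact r.Prime := ⟨hr⟩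
    have : Fact s.Prime := ⟨hs'⟩
    obtain ⟨R, hR⟩ := exists_sylowIn (p := r) (C w₀)
    obtain ⟨S, hS⟩ := exists_sylowIn (p := s) (C w₀)
    have h1 := Nat.le_of_dvd (by have := hs'.two_le; omega)
      (hs.dvd_sub_one hw₀ hrp hri hsp hsi hsr.symm hS (hsub hsp hS))
    have h2 := Nat.le_of_dvd (by have := hr.two_le; omega)
      (hs.dvd_sub_one hw₀ hsp hsi hrp hri hsr hR (hsub hrp hR))
    have := hr.two_le
    have := hs'.two_le
    omega
  have hHcentV : H ≤ centralizer (V : Set G) := fun h hh => by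
    by_contra hne
    obtain ⟨t, x, ht, hxt, hxz, hxK⟩ := exists_pel_notMem (centralizer (V : Set G)) hne
    have hxH : x ∈ H := (zpowers_le.mpr hh) hxz
    have hx1 : x ≠ 1 := fun e => hxK (e ▸ one_mem _)
    have hco : (orderOf x).Coprime p := by
      refine Nat.Coprime.coprime_dvd_left (Subgroup.orderOf_dvd_natCard H hxH) ?_
      exact ((hs.hp.coprime_iff_not_dvd).mpr hHp).symm
    refine hxK (mem_centralizer_iff.mpr fun v hv => mem_C.mp (hHV x hxH
      ⟨t, ht, pel_of_coprime_dvd hxt hx1 hco, hxt, fun e => hxK (center_le_centralizer _ e)⟩ hv))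
  -- inside `D`
  set K : Subgroup D := H.subgroupOf D with hKdef
  obtain ⟨j, hj⟩ := hHi
  have hKi : K.index = p ^ j := hj
  have hKcard : Nat.card K = Nat.card H := Nat.card_congr (subgroupOfEquivOfLe hHle).toEquiv
  have hKp : ¬ p ∣ Nat.card K := hKcard ▸ hHp
  have : Group.IsSolvable D := isSolvable_of_complement hs.hp hHle hHc hHp ⟨j, hj⟩
  have hcore : ∀ t : ℕ, t.Prime → t ≠ p → Cfsg.pCore t D ≤ K := by
    intro t ht htp
    have : Fact t.Prime := ⟨ht⟩
    set N := Cfsg.pCore t D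
    obtain ⟨e, he⟩ := IsPGroup.iff_card.mp (CfsgLib.Cores.isPGroup_pCore t D)
    have hcardL : Nat.card (K ⊔ N : Subgroup D) = Nat.card N * N.relIndex K := by
      rw [← relIndex_sup_right (H := K) (K := N), ← relIndex_bot_left,
        ← relIndex_bot_left, relIndex_mul_relIndex ⊥ N _ bot_le le_sup_right]
    have hLp : (Nat.card (K ⊔ N : Subgroup D)).Coprime (p ^ j) := by
      rw [hcardL]
      refine (Nat.Coprime.mul_left ?_ ?_).pow_right j
      · rw [he]
        exact ((Nat.coprime_primes ht hs.hp).mpr htp).pow_left e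
      · exact ((hs.hp.coprime_iff_not_dvd).mpr hKp).symm.coprime_dvd_left
          (relIndex_dvd_card N K)
    have hdvd : Nat.card (K ⊔ N : Subgroup D) ∣ Nat.card K :=
      hLp.dvd_of_dvd_mul_right (by rw [← hKi, card_mul_index]; exact card_subgroup_dvd_card _)
    exact le_sup_right.trans
      (eq_of_le_of_card_ge le_sup_left (Nat.le_of_dvd Nat.card_pos hdvd)).ge
  have hKF : K ≤ centralizer (Cfsg.fittingSubgroup D : Set D) := by
    rw [le_centralizer_iff, CfsgLib.Cores.fittingSubgroup_eq_iSup_pCore]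
    refine iSup_le fun t d hd => mem_centralizer_iff.mpr fun a ha => ?_
    by_cases htp : (t : ℕ) = p
    · rw [htp] at hd
      exact Subtype.ext (mem_centralizer_iff.mp (hHcentV ha) _ ⟨d, hd, rfl⟩).symm
    · exact Subtype.ext (hHc _ ha _ (hcore t (Nat.prime_of_mem_primeFactors t.2) htp hd)).eq
  obtain ⟨t, ht, htp, hwt, -⟩ := hwb
  have : Fact t.Prime := ⟨ht⟩
  obtain ⟨E, hE⟩ := exists_sylowIn (p := t) K
  have hEfull := hE.full (by
    rw [hKi]
    exact fun hd => htp ((Nat.prime_dvd_prime_iff_eq ht hs.hp).mp (ht.dvd_of_dvd_pow hd)))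
  obtain ⟨c, -, hc⟩ := hEfull.conj_mem (x := (⟨w, hw⟩ : D)) (pel_coe.mp hwt) (mem_top _)
  have hN : c * ⟨w, hw⟩ * c⁻¹ ∈ Cfsg.pCore t D :=
    mem_pCore_of_isNilpotent (N := Cfsg.fittingSubgroup D)
      CfsgLib.Cores.isNilpotent_fittingSubgroup (PEl.of_mem hE.isPGroup hc)
      (CfsgLib.Cores.centralizer_fittingSubgroup_le (hKF (hE.le hc)))
  have hwN := (inferInstance : (Cfsg.pCore t D).Normal).conj_mem _ hN c⁻¹
  rw [show c⁻¹ * (c * ⟨w, hw⟩ * c⁻¹) * c⁻¹⁻¹ = (⟨w, hw⟩ : D) by group] at hwN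
  exact hcore t ht htp hwN

/-- A noncentral `p`-element commutes with big elements of one centralizer only. -/
theorem Setting.unique_pel (hs : Setting G n₁ n₂ k p) {u : G} (hu : PEl p u) (huc : u ∉ center G)
    {w w' : G} (hw : w ∈ C u) (hw' : w' ∈ C u) (hwb : Big p w) (hwb' : Big p w') :
    C w = C w' := by
  rcases hs.nest.base.cases huc with e | e
  swap
  · exact hs.comm_eq hwb hwb'
      (min_central (hs.nest.base.min_of_cl e) huc hu hw (hwb.coprime hs.hp) hw')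
  rcases hs.nest.trichotomy hs.hp hu e with
    h0 | ⟨-, H, hHle, hHc, hHp, hHi⟩ | ⟨q, hq, hqp, hc⟩
  · exact hs.comm_eq hwb hwb' (h0 w hw (hwb.coprime hs.hp) hw')
  · refine hs.comm_eq hwb hwb' (mem_C.mpr ?_)
    exact (hHc w' (hs.complement_mem hHle hHc hHp hHi hw' hwb')
      w (hs.complement_mem hHle hHc hHp hHi hw hwb)).eq
  · obtain ⟨t, ht, htp, htq, a, ha, hat, hac⟩ := hs.exists_mem_third hq huc
    have heq := hs.nest.base.eq_of_le₂ e hac (hc t ht htp htq a ha hat)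
    have hab : Big p a := ⟨t, ht, htp, hat, hac⟩
    rw [← hs.comm_eq hab hwb (heq ▸ hw), ← hs.comm_eq hab hwb' (heq ▸ hw')]

theorem Setting.unique (hs : Setting G n₁ n₂ k p) {v : G} (hv : v ∉ center G) {w w' : G}
    (hw : w ∈ C v) (hw' : w' ∈ C v) (hwb : Big p w) (hwb' : Big p w') : C w = C w' := by
  obtain ⟨r, u, hr, hu, hle, huc⟩ := exists_pel_noncentral hv
  by_cases hrp : r = p
  · exact hs.unique_pel (hrp ▸ hu) huc (hle hw) (hle hw') hwb hwb'
  · have hub : Big p u := ⟨r, hr, hrp, hu, huc⟩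
    rw [← hs.comm_eq hub hwb (hle hw), ← hs.comm_eq hub hwb' (hle hw')]

theorem Setting.isSolvable_C (hs : Setting G n₁ n₂ k p) {v : G} (hv : v ∉ center G) :
    Group.IsSolvable (C v) := by
  obtain ⟨r, u, hr, hu, hle, huc⟩ := exists_pel_noncentral hv
  suffices Group.IsSolvable (C u) from
    Group.isSolvable_of_isSolvable_injective (f := inclusion hle) (inclusion_injective hle)
  have hreg : (∀ x ∈ C u, (orderOf x).Coprime p → C u ≤ C x) → Group.IsSolvable (C u) := fun h =>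
    isSolvable_of_central hs.hp hs.hp fun t ht htp _ x hx hxt =>
      h x hx (orderOf_coprime_of_pel hs.hp ht htp hxt)
  by_cases hrp : r = p
  swap
  · exact hreg fun x hx hco => hs.big_le ⟨r, hr, hrp, hu, huc⟩ hx hco
  subst hrp
  rcases hs.nest.base.cases huc with e | e
  swap
  · exact hreg fun x hx hco => min_central (hs.nest.base.min_of_cl e) huc hu hx hco
  rcases hs.nest.trichotomy hr hu e with h0 | ⟨-, H, hHle, hHc, hHp, hHi⟩ | ⟨q, hq, -, hc⟩
  · exact hreg h0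
  · exact isSolvable_of_complement hr hHle hHc hHp hHi
  · exact isSolvable_of_central hr hq hc

end CfsgLib.ClassSizesThreeIto
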